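import Cfsg.Prelude.Def_OddOrderLocal
import Cfsg.Agent.OddLocal.RankTwo.Omega
import Cfsg.Agent.OddLocal.RankTwo.SmallAut
import Cfsg.Agent.OddLocal.Basic
import Cfsg.Agent.FGS3.Regular
import Cfsg.Agent.S0015

/-! Maximal elementary abelian subgroups of order `p ^ 2`; narrow `p`-groups. -/

set_option autoImplicit false
set_option linter.style.haveILetI false

namespace Cfsg.Agent.OddLocal.RankTwo

open Cfsg
open scoped commutatorElement

variable {R : Type*} [Group R] {p : ℕ}

theorem ea_zpowers {w : R} (hw : w ^ p = 1) : IsElementaryAbelian p (Subgroup.zpowers w) := by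
  refine ⟨inferInstance, ?_⟩
  rintro _ ⟨i, rfl⟩
  show (w ^ i) ^ p = 1
  rw [← zpow_natCast, ← zpow_mul, mul_comm, zpow_mul, zpow_natCast, hw, one_zpow]

theorem ea_insert {E : Subgroup R} (hE : IsElementaryAbelian p E) {w : R} (hw : w ^ p = 1)
    (hc : w ∈ Subgroup.centralizer (E : Set R)) : IsElementaryAbelian p (E ⊔ Subgroup.zpowers w) :=
  PLocal.isEA_sup hE (ea_zpowers hw) (Subgroup.le_centralizer_iff.mp (Subgroup.zpowers_le.mpr hc))

variable [Finite R] [hp : Fact p.Prime]

/-- Alperin: for odd `p`, the elements of order `p` centralizing a maximal normal elementary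
abelian subgroup lie in it. -/
theorem mem_of_maximal_normal_ea (hp2 : p ≠ 2) (hR : IsPGroup p R) {A : Subgroup R} (hAn : A.Normal)
    (hA : IsElementaryAbelian p A)
    (hmax : ∀ B : Subgroup R, B.Normal → IsElementaryAbelian p B → A ≤ B → B = A) {x : R}
    (hx : x ∈ Subgroup.centralizer (A : Set R)) (hxp : x ^ p = 1) : x ∈ A := by
  classical
  haveI := hR.isNilpotent
  haveI := hAn
  by_contra hxA
  haveI : (Subgroup.centralizer (A : Set R)).Normal := Subgroup.normal_centralizer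
  obtain ⟨K, hK, hKmin⟩ := (Set.toFinite {K : Subgroup R | K.Normal ∧ A ≤ K ∧
    K ≤ Subgroup.centralizer (A : Set R) ∧ ∃ y ∈ K, y ^ p = 1 ∧ y ∉ A}).exists_minimal
    ⟨Subgroup.centralizer (A : Set R), inferInstance,
      Subgroup.le_centralizer_iff_isMulCommutative.mpr hA.1, le_rfl, x, hx, hxp, hxA⟩
  obtain ⟨hKn, hAK, hKC, y₀, hy₀, hy₀p, hy₀A⟩ := hK
  obtain ⟨M, hM, hMmax⟩ := (Set.toFinite {M : Subgroup R | M.Normal ∧ A ≤ M ∧ M < K}).exists_maximal
    ⟨A, hAn, le_rfl, lt_of_le_of_ne hAK fun h => hy₀A (h ▸ hy₀)⟩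
  obtain ⟨hMn, hAM, hMK⟩ := hM
  haveI := hMn
  haveI := hKn
  have hMS : ∀ m ∈ M, m ^ p = 1 → m ∈ A := fun m hm hmp => by
    by_contra hmA
    exact (not_le_of_gt hMK) (hKmin ⟨hMn, hAM, hMK.le.trans hKC, m, hm, hmp, hmA⟩ hMK.le)
  set π := QuotientGroup.mk' M with hπ
  haveI : (K.map π).Normal := Subgroup.Normal.map inferInstance _ (QuotientGroup.mk'_surjective M)
  obtain ⟨_, ⟨z, hz, rfl⟩, hz1, hzc⟩ := exists_ne_one_mem_center_of_normal (K.map π) (fun h => by
    rw [Subgroup.map_eq_bot_iff, hπ, QuotientGroup.ker_mk'] at h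
    exact (not_le_of_gt hMK) h)
  have hKz : M ⊔ Subgroup.zpowers z = K := by
    have hnz : (M ⊔ Subgroup.zpowers z).Normal := by
      have e : M ⊔ Subgroup.zpowers z = (Subgroup.zpowers (π z)).comap π := by
        rw [← MonoidHom.map_zpowers, Subgroup.comap_map_eq, hπ, QuotientGroup.ker_mk', sup_comm]
      rw [e]
      haveI : (Subgroup.zpowers (π z)).Normal := ⟨fun w hw g => by
        have hwc := (Subgroup.zpowers_le.mpr hzc) hw
        rw [Subgroup.mem_center_iff] at hwc
        rwa [hwc g, mul_inv_cancel_right]⟩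
      infer_instance
    refine (eq_or_lt_of_le (sup_le hMK.le (Subgroup.zpowers_le.mpr hz))).resolve_right fun hlt => ?_
    have := hMmax ⟨hnz, hAM.trans le_sup_left, hlt⟩ le_sup_left
    exact hz1 ((QuotientGroup.eq_one_iff z).mpr (this (Subgroup.mem_sup_right (Subgroup.mem_zpowers z))))
  have hKR : ∀ k ∈ K, ∀ g : R, k * g * k⁻¹ * g⁻¹ ∈ M := by
    intro k hk g
    rw [← QuotientGroup.eq_one_iff]
    show π _ = 1
    have hkc : π k ∈ Subgroup.center (R ⧸ M) := by
      rw [← hKz] at hk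
      obtain ⟨m, hm, w, hw, rfl⟩ := Subgroup.mem_sup_of_normal_left.mp hk
      rw [map_mul, show π m = 1 from (QuotientGroup.eq_one_iff m).mpr hm, one_mul]
      obtain ⟨i, rfl⟩ := hw
      rw [map_zpow]
      exact zpow_mem hzc i
    rw [map_mul, map_mul, map_mul, map_inv, map_inv, ← Subgroup.mem_center_iff.mp hkc (π g),
      mul_inv_cancel_right, mul_inv_cancel]
  have hcomm : ∀ a ∈ A, ∀ k ∈ K, a * k = k * a := fun a ha k hk =>
    Subgroup.mem_centralizer_iff.mp (hKC hk) a ha
  have hodd : 2 < p := lt_of_le_of_ne hp.out.two_le (Ne.symm hp2)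
  have hmul : ∀ n : ℕ, ∀ a b : R, Nat.card (Subgroup.closure ({a, b} : Set R)) ≤ n → a ∈ K → b ∈ K →
      a ^ p = 1 → b ^ p = 1 → (a * b) ^ p = 1 := by
    intro n
    induction n with
    | zero => intro a b h; exact absurd h (by simp [Nat.card_pos.ne'])
    | succ n ih =>
      intro a b hn ha hb hap hbp
      by_cases hab : a * b = b * a
      · rw [(show Commute a b from hab).mul_pow, hap, hbp, one_mul]
      set Q := Subgroup.closure ({a, b} : Set R) with hQ
      have haQ : a ∈ Q := Subgroup.subset_closure (by simp)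
      have hbQ : b ∈ Q := Subgroup.subset_closure (by simp)
      have hD : ⁅Q, Q⁆ ≠ ⊥ := fun h => hab (commutatorElement_eq_one_iff_mul_comm.mp
        (Subgroup.mem_bot.mp (h ▸ Subgroup.commutator_mem_commutator haQ hbQ)))
      have hlt := FGS3.Regular.zpowers_sup_lt hR (x := a) (a := a) (b := b) haQ hD
      have hle : Subgroup.closure ({a⁻¹, b * a * b⁻¹} : Set R) ≤ Subgroup.zpowers a ⊔ ⁅Q, Q⁆ := by
        refine (Subgroup.closure_le _).mpr ?_
        rintro w (rfl | rfl)
        · exact Subgroup.mem_sup_left (inv_mem (Subgroup.mem_zpowers a))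
        · rw [show b * a * b⁻¹ = ⁅b, a⁆ * a by rw [commutatorElement_def, inv_mul_cancel_right]]
          exact mul_mem (Subgroup.mem_sup_right (Subgroup.commutator_mem_commutator hbQ haQ))
            (Subgroup.mem_sup_left (Subgroup.mem_zpowers a))
      have hsmall : Nat.card (Subgroup.closure ({a⁻¹, b * a * b⁻¹} : Set R)) ≤ n := by
        have h1 := (Subgroup.card_le_of_le hle).trans_lt (FGS3.Regular.card_lt_card hlt)
        have h2 : Nat.card Q ≤ n + 1 := hn
        exact Nat.lt_succ_iff.mp (h1.trans_le h2)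
      set m := a⁻¹ * (b * a * b⁻¹) with hm
      have hmp : m ^ p = 1 := ih _ _ hsmall (inv_mem ha) (hKn.conj_mem a ha b)
        (by rw [inv_pow, hap, inv_one]) (by rw [conj_pow, hap]; group)
      have hmM : m ∈ M := by
        have h1 := hKR a⁻¹ (inv_mem ha) b
        rw [inv_inv] at h1
        rwa [hm, show a⁻¹ * (b * a * b⁻¹) = a⁻¹ * b * a * b⁻¹ by group]
      have hmA := hMS m hmM hmp
      have hma : Commute m a := hcomm m hmA a ha
      have hmb : Commute m b := hcomm m hmA b hb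
      have hba : b * a = m * a * b := by rw [hma.eq, hm]; group
      obtain ⟨j, hj⟩ := hp.out.dvd_choose_self (by norm_num : (2 : ℕ) ≠ 0) hodd
      rw [pow_mul_class_two hba hma hmb, hap, hbp, hj, pow_mul, hmp, one_pow, one_mul, one_mul]
  let T : Subgroup R :=
    { carrier := {k | k ∈ K ∧ k ^ p = 1}
      one_mem' := ⟨one_mem _, one_pow _⟩
      mul_mem' := fun {a b} ha hb => ⟨mul_mem ha.1 hb.1, hmul _ a b le_rfl ha.1 hb.1 ha.2 hb.2⟩
      inv_mem' := fun {a} ha => ⟨inv_mem ha.1, by rw [inv_pow, ha.2, inv_one]⟩ }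
  have hTn : T.Normal := ⟨fun a ha g => ⟨hKn.conj_mem a ha.1 g, by rw [conj_pow, ha.2]; group⟩⟩
  have hAT : A ≤ T := fun a ha => ⟨hAK ha, hA.2 a ha⟩
  have hTK : T ≤ K := fun a ha => ha.1
  have hexp : ∀ k ∈ K, k ^ p = 1 := fun k hk =>
    ((hKmin ⟨hTn, hAT, hTK.trans hKC, y₀, ⟨hy₀, hy₀p⟩, hy₀p, hy₀A⟩ hTK) hk).2
  have hMA : M = A := le_antisymm (fun m hm => hMS m hm (hexp m (hMK.le hm))) hAM
  have hea : IsElementaryAbelian p K := by
    rw [← hKz, hMA]
    exact ea_insert hA (hexp z hz) (hKC hz)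
  exact hy₀A ((hmax K hKn hea hAK).le hy₀)

omit hp in
theorem exists_ea_of_rank (hr : ¬ PRankLE p 2 R) :
    ∃ F : Subgroup R, IsElementaryAbelian p F ∧ p ^ 2 < Nat.card F := by
  unfold PRankLE at hr
  push Not at hr
  obtain ⟨F, hc, he, hF⟩ := hr
  exact ⟨F, ⟨hc, he⟩, hF⟩

theorem three_le_of_gt {Y : Subgroup R} (hY : IsElementaryAbelian p Y) (h : p ^ 2 < Nat.card Y) :
    p ^ 3 ≤ Nat.card Y := by
  obtain ⟨n, hn⟩ := (Components.ea_isPGroup hY).exists_card_eq
  rw [hn] at h ⊢
  exact Nat.pow_le_pow_right hp.out.pos ((Nat.pow_lt_pow_iff_right hp.out.one_lt).mp h)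

theorem sq_le_card_inf (hR : IsPGroup p R) {U : Subgroup R} (hUn : U.Normal) (hU : IsElementaryAbelian p U)
    (hUc : Nat.card U = p ^ 2) {Y : Subgroup R} (hY : IsElementaryAbelian p Y) (hY2 : p ^ 2 < Nat.card Y) :
    p ^ 2 ≤ Nat.card ↥(Y ⊓ Subgroup.centralizer (U : Set R)) := by
  haveI := hUn
  haveI : (Subgroup.centralizer (U : Set R)).Normal := Subgroup.normal_centralizer
  have h1 := Components.card_mul_relIndex' (inf_le_left : Y ⊓ Subgroup.centralizer (U : Set R) ≤ Y)
  rw [Subgroup.inf_relIndex_left] at h1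
  have h2 : (Subgroup.centralizer (U : Set R)).relIndex Y ≤ p :=
    (Nat.le_of_dvd (Nat.pos_of_ne_zero Subgroup.index_ne_zero_of_finite)
      (Subgroup.relIndex_dvd_index_of_normal _ _)).trans (Components.index_centralizer_normal_ea hR hUn hU hUc)
  refine Nat.le_of_mul_le_mul_right (c := p) ?_ hp.out.pos
  calc p ^ 2 * p = p ^ 3 := by ring
    _ ≤ Nat.card Y := three_le_of_gt hY hY2
    _ = _ := h1.symm
    _ ≤ _ := Nat.mul_le_mul_left _ h2

/-- A maximal normal elementary abelian subgroup of a `p`-group of rank at least three has order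
at least `p ^ 3`. -/
theorem card_maximal_normal_ea (hp2 : p ≠ 2) (hR : IsPGroup p R) (hr : ¬ PRankLE p 2 R) {A : Subgroup R}
    (hAn : A.Normal) (hA : IsElementaryAbelian p A)
    (hmax : ∀ B : Subgroup R, B.Normal → IsElementaryAbelian p B → A ≤ B → B = A) :
    p ^ 2 < Nat.card A := by
  haveI := hR.isNilpotent
  by_contra hle
  push Not at hle
  obtain ⟨F, hF, hFc⟩ := exists_ea_of_rank hr
  obtain ⟨k, hk⟩ := (Components.ea_isPGroup hA).exists_card_eq
  have hk2 : k ≤ 2 := by rw [hk] at hle; exact (Nat.pow_le_pow_iff_right hp.out.one_lt).mp hle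
  have hsub : ∀ Y : Subgroup R, (∀ y ∈ Y, y ^ p = 1) → Y ≤ Subgroup.centralizer (A : Set R) → Y ≤ A :=
    fun Y hY hYc y hy => mem_of_maximal_normal_ea hp2 hR hAn hA hmax (hYc hy) (hY y hy)
  have hFA : F ≤ A := by
    by_cases hA2 : k = 2
    · subst hA2
      have hD := sq_le_card_inf hR hAn hA hk hF hFc
      have heq : F ⊓ Subgroup.centralizer (A : Set R) = A :=
        Subgroup.eq_of_le_of_card_ge (hsub _ (fun y hy => hF.2 y hy.1) inf_le_right) (hk ▸ hD)
      refine hsub F hF.2 fun f hf => Subgroup.mem_centralizer_iff.mpr fun a ha => ?_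
      exact PLocal.comm_of_EA hF ((heq.ge.trans inf_le_left) ha) hf
    · refine hsub F hF.2 ?_
      have hcen : A ≤ Subgroup.center R := by
        by_cases hb : A = ⊥
        · rw [hb]; exact bot_le
        haveI := hAn
        obtain ⟨z, hzA, hz1, hzc⟩ := exists_ne_one_mem_center_of_normal A hb
        have : Subgroup.zpowers z = A := by
          refine Subgroup.eq_of_le_of_card_ge (Subgroup.zpowers_le.mpr hzA) ?_
          rw [Nat.card_zpowers, orderOf_eq_prime (hA.2 z hzA) hz1, hk]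
          exact (Nat.pow_le_pow_right hp.out.pos (show k ≤ 1 by omega)).trans (pow_one p).le
        rw [← this]; exact Subgroup.zpowers_le.mpr hzc
      rw [Subgroup.centralizer_eq_top_iff_subset.mpr hcen]
      exact le_top
  exact absurd ((hFc.trans_le (Subgroup.card_le_of_le hFA)).trans_le hle) (lt_irrefl _)

/-- A normal elementary abelian subgroup lies in a self-centralizing abelian normal subgroup of
rank at least three, if the rank is at least three. -/
theorem exists_scn_three (hp2 : p ≠ 2) (hR : IsPGroup p R) (hr : ¬ PRankLE p 2 R) (E : Subgroup R)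
    [E.Normal] (hE : IsElementaryAbelian p E) :
    ∃ A : Subgroup R, E ≤ A ∧ A.Normal ∧ Subgroup.centralizer (A : Set R) = A ∧ ¬ PRankLE p 2 A := by
  haveI := hR.isNilpotent
  obtain ⟨B, hEB, ⟨hBn, hB⟩, hBmax⟩ := (Set.toFinite
    {B : Subgroup R | B.Normal ∧ IsElementaryAbelian p B}).exists_le_maximal (a := E) ⟨inferInstance, hE⟩
  have hBc := card_maximal_normal_ea hp2 hR hr hBn hB (fun C hC hC' hle => le_antisymm (hBmax ⟨hC, hC'⟩ hle) hle)
  obtain ⟨A, hBA, ⟨hAn, hAc⟩, hAmax⟩ := (Set.toFinite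
    {A : Subgroup R | A.Normal ∧ IsMulCommutative A}).exists_le_maximal (a := B) ⟨hBn, hB.1⟩
  haveI := hAn
  haveI := hAc
  refine ⟨A, hEB.trans hBA, hAn,
    Cfsg.Agent.S0015.result A (fun M hM hMc hle => le_antisymm (hAmax ⟨hM, hMc⟩ hle) hle), fun h => ?_⟩
  have hB' := PLocal.isEA_comap hB A.subtype A.subtype_injective
  have hc := h _ hB'.1 hB'.2
  change Nat.card ↥(B.subgroupOf A) ≤ p ^ 2 at hc
  rw [Nat.card_congr (Subgroup.subgroupOfEquivOfLe hBA).toEquiv] at hc
  exact absurd hc (not_le.mpr hBc)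

/-- `E` is elementary abelian of order `p ^ 2` and maximal among elementary abelian subgroups. -/
def MaxEASq (p : ℕ) (E : Subgroup R) : Prop :=
  IsElementaryAbelian p E ∧ Nat.card E = p ^ 2 ∧
    ∀ B : Subgroup R, IsElementaryAbelian p B → E ≤ B → B = E

omit [Finite R] hp in
theorem MaxEASq.mem {E : Subgroup R} (hE : MaxEASq p E) {w : R} (hw : w ^ p = 1)
    (hc : w ∈ Subgroup.centralizer (E : Set R)) : w ∈ E :=
  (hE.2.2 _ (ea_insert hE.1 hw hc) le_sup_left).le (Subgroup.mem_sup_right (Subgroup.mem_zpowers w))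

/-- The structure of `Ω₁(Z₂(R))` when a maximal elementary abelian subgroup has order `p ^ 2`. -/
theorem secondCenter_structure (hp2 : p ≠ 2) (hR : IsPGroup p R) (hr : ¬ PRankLE p 2 R) {E : Subgroup R}
    (hE : MaxEASq p E) :
    ¬ E ≤ Subgroup.centralizer
        ((Subgroup.closure {x : R | x ∈ Subgroup.upperCentralSeries R 2 ∧ x ^ p = 1} : Subgroup R) : Set R) ∧
      Nat.card ↥(Subgroup.closure {x : R | x ∈ Subgroup.center R ∧ x ^ p = 1}) = p ∧
      (IsElementaryAbelian p (Subgroup.closure {x : R | x ∈ Subgroup.upperCentralSeries R 2 ∧ x ^ p = 1}) ∧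
        Nat.card ↥(Subgroup.closure {x : R | x ∈ Subgroup.upperCentralSeries R 2 ∧ x ^ p = 1}) = p ^ 2) ∧
      (Subgroup.centralizer
        ((Subgroup.closure {x : R | x ∈ Subgroup.upperCentralSeries R 2 ∧ x ^ p = 1} : Subgroup R) : Set R)).Characteristic ∧
      (Subgroup.centralizer
        ((Subgroup.closure {x : R | x ∈ Subgroup.upperCentralSeries R 2 ∧ x ^ p = 1} : Subgroup R) : Set R)).index = p := by
  classical
  haveI := hR.isNilpotent
  obtain ⟨F, hF, hFc⟩ := exists_ea_of_rank hr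
  obtain ⟨U, hUn, hU, hUc⟩ := Components.exists_normal_ea hR hF (three_le_of_gt hF hFc)
  have hodd : 2 < p := lt_of_le_of_ne hp.out.two_le (Ne.symm hp2)
  let Z : Subgroup R :=
    { carrier := {x | x ∈ Subgroup.center R ∧ x ^ p = 1}
      one_mem' := ⟨one_mem _, one_pow _⟩
      mul_mem' := fun {a b} ha hb => ⟨mul_mem ha.1 hb.1, by
        rw [(show Commute a b from (Subgroup.mem_center_iff.mp ha.1 b).symm).mul_pow, ha.2, hb.2, one_mul]⟩
      inv_mem' := fun {a} ha => ⟨inv_mem ha.1, by rw [inv_pow, ha.2, inv_one]⟩ }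
  have hw : ∀ a, a ∈ Subgroup.upperCentralSeries R 2 → a ^ p = 1 → ∀ g : R, a⁻¹ * (g * a * g⁻¹) ∈ Z := by
    intro a ha hap g
    have hc : a⁻¹ * g * (a⁻¹)⁻¹ * g⁻¹ ∈ Subgroup.center R := by
      have h := Subgroup.mem_upperCentralSeries_succ_iff.mp (inv_mem ha) g
      rwa [Subgroup.upperCentralSeries_one] at h
    rw [inv_inv, show a⁻¹ * g * a * g⁻¹ = a⁻¹ * (g * a * g⁻¹) by group] at hc
    refine ⟨hc, ?_⟩
    rw [(show Commute a⁻¹ (g * a * g⁻¹) from ?_).mul_pow, inv_pow, hap, inv_one, one_mul, conj_pow, hap]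
    · group
    · have h := Subgroup.mem_center_iff.mp hc a⁻¹
      exact mul_left_cancel (a := a⁻¹) (h.trans (mul_assoc _ _ _))
  let W : Subgroup R :=
    { carrier := {x | x ∈ Subgroup.upperCentralSeries R 2 ∧ x ^ p = 1}
      one_mem' := ⟨one_mem _, one_pow _⟩
      mul_mem' := fun {a b} ha hb => ⟨mul_mem ha.1 hb.1, by
        set c := a⁻¹ * (b * a * b⁻¹) with hc
        obtain ⟨hcc, hcp⟩ := hw a ha.1 ha.2 b
        have hca : Commute c a := (Subgroup.mem_center_iff.mp hcc a).symm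
        have hcb : Commute c b := (Subgroup.mem_center_iff.mp hcc b).symm
        have hba : b * a = c * a * b := by rw [hca.eq, hc]; group
        obtain ⟨j, hj⟩ := hp.out.dvd_choose_self (by norm_num : (2 : ℕ) ≠ 0) hodd
        rw [pow_mul_class_two hba hca hcb, ha.2, hb.2, hj, pow_mul, hcp, one_pow, one_mul, one_mul]⟩
      inv_mem' := fun {a} ha => ⟨inv_mem ha.1, by rw [inv_pow, ha.2, inv_one]⟩ }
  have hWcl : Subgroup.closure {x : R | x ∈ Subgroup.upperCentralSeries R 2 ∧ x ^ p = 1} = W :=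
    Subgroup.closure_eq W
  have hZcl : Subgroup.closure {x : R | x ∈ Subgroup.center R ∧ x ^ p = 1} = Z := Subgroup.closure_eq Z
  rw [hWcl, hZcl]
  have hZW : Z ≤ W := fun x hx => ⟨Subgroup.upperCentralSeries_mono R (show 1 ≤ 2 by omega)
    (by rw [Subgroup.upperCentralSeries_one]; exact hx.1), hx.2⟩
  have hZE : Z ≤ E := fun x hx => hE.mem hx.2
    (Subgroup.mem_centralizer_iff.mpr fun y _ => Subgroup.mem_center_iff.mp hx.1 y)
  have hnorm : ∀ B : Subgroup R, Z ≤ B → B ≤ W → B.Normal := fun B hZB hBW => ⟨fun b hb g => by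
    simpa using mul_mem hb (hZB (hw b (hBW hb).1 (hBW hb).2 g))⟩
  have hEn : ¬ E.Normal := fun hn => by
    have hD := sq_le_card_inf hR hn hE.1 hE.2.1 hF hFc
    have heq : F ⊓ Subgroup.centralizer (E : Set R) = E :=
      Subgroup.eq_of_le_of_card_ge (fun f hf => hE.mem (hF.2 f hf.1) hf.2) (hE.2.1 ▸ hD)
    have := hE.2.2 F hF (heq.ge.trans inf_le_left)
    rw [this, hE.2.1] at hFc
    exact lt_irrefl _ hFc
  have hEW : ¬ E ≤ W := fun h => hEn (hnorm E hZE h)
  have hZ0 : Z ≠ ⊥ := by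
    have hUne : U ≠ ⊥ := fun h => by
      rw [h, Subgroup.card_bot] at hUc
      exact absurd hUc (ne_of_lt (Nat.one_lt_pow two_ne_zero hp.out.one_lt))
    haveI := hUn
    obtain ⟨z, hzU, hz1, hzc⟩ := exists_ne_one_mem_center_of_normal U hUne
    intro hZ
    exact hz1 (Subgroup.mem_bot.mp (hZ ▸ (⟨hzc, hU.2 z hzU⟩ : z ∈ Z)))
  have hZp : Nat.card Z = p := by
    obtain ⟨k, hk⟩ := (hR.to_subgroup Z).exists_card_eq
    have h0 : k ≠ 0 := fun h => hZ0 (Subgroup.card_eq_one.mp (by rw [hk, h, pow_zero]))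
    have h2 : k < 2 := by
      have hlt : Nat.card Z < p ^ 2 := by
        rw [← hE.2.1]
        refine (Subgroup.card_le_of_le hZE).lt_of_ne fun h => hEW ?_
        exact (Subgroup.eq_of_le_of_card_ge hZE h.ge).ge.trans hZW
      rw [hk] at hlt
      exact (Nat.pow_lt_pow_iff_right hp.out.one_lt).mp hlt
    rw [hk, show k = 1 by omega, pow_one]
  obtain ⟨e, heE, heW⟩ := SetLike.not_le_iff_exists.mp hEW
  have heZ : e ∉ Z := fun h => heW (hZW h)
  have hEgen : Z ⊔ Subgroup.zpowers e = E := by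
    refine Subgroup.eq_of_le_of_card_ge (sup_le hZE (Subgroup.zpowers_le.mpr heE)) ?_
    rw [Components.ea_card_sup_zpowers hE.1 hZE heE heZ, hZp, hE.2.1, sq]
  have hX : ∀ w ∈ W, w * e = e * w → w ∈ Z := by
    intro w hwW hwe
    have hc : w ∈ Subgroup.centralizer (E : Set R) := by
      rw [← hEgen, ← Subgroup.zpowers_le, Subgroup.le_centralizer_iff]
      refine sup_le (fun z hz => Subgroup.mem_centralizer_iff.mpr fun v _ => Subgroup.mem_center_iff.mp hz.1 v) ?_
      rw [Subgroup.zpowers_le, Subgroup.mem_centralizer_iff]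
      rintro _ ⟨i, rfl⟩
      exact ((show Commute w e from hwe).zpow_left i).eq
    have hwE := hE.mem hwW.2 hc
    by_contra hwZ
    refine hEW ?_
    have h1 : Z ⊔ Subgroup.zpowers w = E := by
      refine Subgroup.eq_of_le_of_card_ge (sup_le hZE (Subgroup.zpowers_le.mpr hwE)) ?_
      rw [Components.ea_card_sup_zpowers hE.1 hZE hwE hwZ, hZp, hE.2.1, sq]
    exact h1.ge.trans (sup_le hZW (Subgroup.zpowers_le.mpr hwW))
  have hWn : W.Normal := hnorm W hZW le_rfl
  have hWcard : Nat.card W ≤ p ^ 2 := by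
    haveI : Z.Normal := hnorm Z le_rfl hZW
    let f : W ⧸ Z.subgroupOf W → Z :=
      Quotient.lift (fun w : W => ⟨(w : R)⁻¹ * (e * w * e⁻¹), hw w w.2.1 w.2.2 e⟩) (fun a b hab => by
        have hc0 : a⁻¹ * b ∈ Z.subgroupOf W := QuotientGroup.leftRel_apply.mp hab
        have hc : (a : R)⁻¹ * b ∈ Z := Subgroup.mem_subgroupOf.mp hc0
        apply Subtype.ext
        show (a : R)⁻¹ * (e * a * e⁻¹) = (b : R)⁻¹ * (e * b * e⁻¹)
        obtain ⟨z, hz, hb⟩ : ∃ z ∈ Z, (b : R) = a * z := ⟨_, hc, (mul_inv_cancel_left _ _).symm⟩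
        have hzc : ∀ g : R, g * z = z * g := Subgroup.mem_center_iff.mp hz.1
        rw [hb, mul_inv_rev, show e * (↑a * z) * e⁻¹ = (e * ↑a * e⁻¹) * (e * z * e⁻¹) by group, hzc e,
          mul_inv_cancel_right, ← mul_assoc (z⁻¹ * (↑a)⁻¹) (e * ↑a * e⁻¹) z, hzc (z⁻¹ * (↑a)⁻¹ * (e * ↑a * e⁻¹))]
        group)
    have hf : Function.Injective f := by
      intro a b
      induction a using QuotientGroup.induction_on with
      | H a =>
        induction b using QuotientGroup.induction_on with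
        | H b =>
          intro hab
          have h' : (a : R)⁻¹ * (e * a * e⁻¹) = (b : R)⁻¹ * (e * b * e⁻¹) := congrArg Subtype.val hab
          refine QuotientGroup.eq.mpr (Subgroup.mem_subgroupOf.mpr (hX _ (mul_mem (inv_mem a.2) b.2) ?_))
          have hcc := (hw a a.2.1 a.2.2 e).1
          obtain ⟨k, hk⟩ : ∃ k, k = (a : R)⁻¹ * (e * a * e⁻¹) := ⟨_, rfl⟩
          rw [← hk] at hcc
          have h1 : e * a * e⁻¹ = a * k := by rw [hk, mul_inv_cancel_left]
          have h2 : e * b * e⁻¹ = b * k := by rw [hk, h', mul_inv_cancel_left]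
          have h3 : e * ((a : R)⁻¹ * b) * e⁻¹ = (a : R)⁻¹ * b := by
            rw [show e * ((a : R)⁻¹ * b) * e⁻¹ = (e * a * e⁻¹)⁻¹ * (e * b * e⁻¹) by group, h1, h2]
            rw [mul_inv_rev, mul_assoc, ← mul_assoc (a : R)⁻¹, Subgroup.mem_center_iff.mp hcc ((a : R)⁻¹ * b),
              inv_mul_cancel_left]
          exact (mul_inv_eq_iff_eq_mul.mp h3).symm
    have h1 := Subgroup.card_mul_index (Z.subgroupOf W)
    rw [Nat.card_congr (Subgroup.subgroupOfEquivOfLe hZW).toEquiv, hZp] at h1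
    rw [← h1, sq]
    exact Nat.mul_le_mul_left _ ((Nat.card_le_card_of_injective f hf).trans hZp.le)
  have hUW : U ≤ W := by
    haveI := hUn
    haveI : Z.Normal := hnorm Z le_rfl hZW
    intro u hu
    refine ⟨?_, hU.2 u hu⟩
    obtain ⟨z, hzU, hz1, hzc⟩ := exists_ne_one_mem_center_of_normal U (fun h => by
      rw [h, Subgroup.card_bot] at hUc
      exact absurd hUc (ne_of_lt (Nat.one_lt_pow two_ne_zero hp.out.one_lt)))
    have hZU : Z ≤ U := by
      have : Subgroup.zpowers z = Z := by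
        refine Subgroup.eq_of_le_of_card_ge (Subgroup.zpowers_le.mpr ⟨hzc, hU.2 z hzU⟩) ?_
        rw [hZp, Nat.card_zpowers, orderOf_eq_prime (hU.2 z hzU) hz1]
      rw [← this]
      exact Subgroup.zpowers_le.mpr hzU
    set π := QuotientGroup.mk' Z with hπ
    haveI : (U.map π).Normal := hUn.map π (QuotientGroup.mk'_surjective Z)
    have hcen : U.map π ≤ Subgroup.center (R ⧸ Z) := by
      by_cases hb : U.map π = ⊥
      · rw [hb]; exact bot_le
      obtain ⟨w, hw', hw1, hwc⟩ := exists_ne_one_mem_center_of_normal _ hb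
      have hcard : Nat.card (U.map π) ≤ p := by
        have h1 := Subgroup.card_mul_index (Z.subgroupOf U)
        rw [Nat.card_congr (Subgroup.subgroupOfEquivOfLe hZU).toEquiv, hZp, hUc, sq] at h1
        refine le_of_le_of_eq (Nat.le_of_dvd ?_ ?_) (mul_left_cancel₀ hp.out.ne_zero h1)
        · exact Nat.pos_of_ne_zero Subgroup.index_ne_zero_of_finite
        · rw [← Subgroup.relIndex_ker, hπ, QuotientGroup.ker_mk']
          exact dvd_rfl
      have : Subgroup.zpowers w = U.map π := by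
        refine Subgroup.eq_of_le_of_card_ge (Subgroup.zpowers_le.mpr hw') (hcard.trans ?_)
        obtain ⟨v, hv, rfl⟩ := hw'
        rw [Nat.card_zpowers, orderOf_eq_prime (by rw [← map_pow, hU.2 v hv, map_one]) hw1]
      rw [← this]
      exact Subgroup.zpowers_le.mpr hwc
    rw [Subgroup.mem_upperCentralSeries_succ_iff]
    intro g
    rw [Subgroup.upperCentralSeries_one]
    have hm : π (u * g * u⁻¹ * g⁻¹) = 1 := by
      rw [map_mul, map_mul, map_mul, map_inv, map_inv,
        ← Subgroup.mem_center_iff.mp (hcen ⟨u, hu, rfl⟩) (π g), mul_inv_cancel_right, mul_inv_cancel]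
    exact ((QuotientGroup.eq_one_iff _).mp hm : _ ∈ Z).1
  have hWU : U = W := Subgroup.eq_of_le_of_card_ge hUW (hUc ▸ hWcard)
  have hWea : IsElementaryAbelian p W := hWU ▸ hU
  have hnle : ¬ E ≤ Subgroup.centralizer (W : Set R) := fun h => by
    have hle : W ≤ Z := fun w hw => hX w hw (Subgroup.mem_centralizer_iff.mp (h heE) w hw)
    have := Subgroup.card_le_of_le hle
    rw [hZp, ← hWU, hUc] at this
    exact absurd this (not_le.mpr (lt_self_pow₀ hp.out.one_lt one_lt_two))
  refine ⟨hnle, hZp, ⟨hWea, hWU ▸ hUc⟩, ?_, ?_⟩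
  · refine Subgroup.characteristic_iff_le_comap.mpr fun φ x hx => Subgroup.mem_centralizer_iff.mpr fun w hw' => ?_
    obtain ⟨w, rfl⟩ := φ.surjective w
    show φ w * φ x = φ x * φ w
    rw [← map_mul, ← map_mul, Subgroup.mem_centralizer_iff.mp hx w ⟨?_, ?_⟩]
    · exact SetLike.ext_iff.mp (Subgroup.characteristic_iff_comap_eq.mp inferInstance φ) w |>.mp hw'.1
    · refine φ.injective ?_
      rw [map_pow, map_one]; exact hw'.2
  · have hle := Components.index_centralizer_normal_ea hR hUn hU hUc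
    rw [hWU] at hle
    obtain ⟨k, hk⟩ := hR.index (Subgroup.centralizer (W : Set R))
    have hne : (Subgroup.centralizer (W : Set R)).index ≠ 1 := fun h => hnle (by
      rw [Subgroup.index_eq_one.mp h]; exact le_top)
    rw [hk] at hle hne ⊢
    have h1 : k ≤ 1 := by
      rw [← Nat.pow_le_pow_iff_right hp.out.one_lt, pow_one]; exact hle
    rw [show k = 1 from le_antisymm h1 (Nat.one_le_iff_ne_zero.mpr fun h => hne (by rw [h, pow_zero])), pow_one]

end Cfsg.Agent.OddLocal.RankTwo
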