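import Cfsg.Agent.OddLocal.RankTwo.Narrow
import Cfsg.Agent.OddLocal.UniqueSubgroup
import Mathlib.GroupTheory.SpecificGroups.Cyclic

/-! Metacyclic `p`-groups, `p` odd. -/

set_option autoImplicit false
set_option linter.style.haveILetI false

namespace Cfsg.Agent.OddLocal.RankTwo

open Cfsg
open scoped commutatorElement

variable {R : Type*} [Group R]

theorem isCyclic_card_le_of_exponent [Finite R] [IsCyclic R] {p : ℕ} [hp : Fact p.Prime]
    (he : ∀ x : R, x ^ p = 1) : Nat.card R ≤ p := by
  obtain ⟨g, hg⟩ := IsCyclic.exists_ofOrder_eq_natCard (α := R)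
  rw [← hg]
  exact Nat.le_of_dvd hp.out.pos (orderOf_dvd_of_pow_eq_one (he g))

theorem metacyclic_subgroup (h : IsMetacyclic R) (H : Subgroup R) : IsMetacyclic H := by
  obtain ⟨N, hNn, hN, hq⟩ := h
  haveI := hNn; haveI := hN; haveI := hq
  refine ⟨N.subgroupOf H, inferInstance, ?_, ?_⟩
  · exact isCyclic_of_injective ((H.subtype.comp (N.subgroupOf H).subtype).codRestrict N fun x => x.2)
      fun a b hab => Subtype.ext (Subtype.ext (congrArg Subtype.val hab :))
  · set g : H ⧸ N.subgroupOf H →* R ⧸ N :=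
      QuotientGroup.map (N.subgroupOf H) N H.subtype (fun x hx => hx) with hg
    refine isCyclic_of_injective g ?_
    intro u v
    induction u using QuotientGroup.induction_on with
    | H u =>
      induction v using QuotientGroup.induction_on with
      | H v =>
        intro huv
        have h2 : (QuotientGroup.mk (u : R) : R ⧸ N) = QuotientGroup.mk (v : R) := huv
        exact QuotientGroup.eq.mpr (Subgroup.mem_subgroupOf.mpr (by simpa using QuotientGroup.eq.mp h2))

theorem metacyclic_quotient (h : IsMetacyclic R) (W : Subgroup R) [W.Normal] : IsMetacyclic (R ⧸ W) := by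
  obtain ⟨N, hNn, hN, hq⟩ := h
  haveI := hNn; haveI := hN; haveI := hq
  set π := QuotientGroup.mk' W
  haveI : (N.map π).Normal := hNn.map π (QuotientGroup.mk'_surjective W)
  refine ⟨N.map π, inferInstance, isCyclic_of_surjective (π.subgroupMap N) (π.subgroupMap_surjective N),
    isCyclic_of_surjective (QuotientGroup.map N (N.map π) π (Subgroup.le_comap_map π N)) ?_⟩
  intro y
  obtain ⟨y, rfl⟩ := QuotientGroup.mk'_surjective (N.map π) y
  obtain ⟨x, rfl⟩ := QuotientGroup.mk'_surjective W y
  exact ⟨QuotientGroup.mk x, rfl⟩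

variable [Finite R] {p : ℕ} [hp : Fact p.Prime]

/-- Subgroups of exponent `p` of metacyclic groups have order at most `p ^ 2`. -/
theorem card_le_of_metacyclic (h : IsMetacyclic R) (Y : Subgroup R) (he : ∀ y ∈ Y, y ^ p = 1) :
    Nat.card Y ≤ p ^ 2 := by
  obtain ⟨N, hNn, hN, hq⟩ := h
  haveI := hNn; haveI := hN; haveI := hq
  have h1 := Subgroup.card_mul_index (N.subgroupOf Y)
  rw [← h1, sq]
  refine Nat.mul_le_mul ?_ ?_
  · haveI : IsCyclic (N.subgroupOf Y) :=
      isCyclic_of_injective ((Y.subtype.comp (N.subgroupOf Y).subtype).codRestrict N fun x => x.2)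
        fun a b hab => Subtype.ext (Subtype.ext (congrArg Subtype.val hab :))
    exact isCyclic_card_le_of_exponent fun x => Subtype.ext (Subtype.ext (he x.1.1 x.1.2))
  · set f := (QuotientGroup.mk' N).comp Y.subtype
    have hf : N.subgroupOf Y = f.ker := by rw [← MonoidHom.comap_ker, QuotientGroup.ker_mk']; rfl
    rw [hf, Subgroup.index_ker]
    exact isCyclic_card_le_of_exponent fun x => by
      obtain ⟨y, hy⟩ := x.2
      refine Subtype.ext ?_
      rw [Subgroup.coe_pow, ← hy, ← map_pow, show y ^ p = 1 from Subtype.ext (he y y.2), map_one]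
      rfl

/-- The elements of order dividing `p` of a metacyclic `p`-group form an elementary abelian subgroup. -/
theorem exists_omega_of_metacyclic (hp2 : p ≠ 2) (hR : IsPGroup p R) (hm : IsMetacyclic R) :
    ∃ A : Subgroup R, A.Normal ∧ IsElementaryAbelian p A ∧ (∀ x : R, x ^ p = 1 → x ∈ A) ∧
      (¬ IsCyclic R → Nat.card A = p ^ 2) ∧ Nat.card A ≤ p ^ 2 := by
  classical
  haveI := hR.isNilpotent
  obtain ⟨A, -, ⟨hAn, hA⟩, hAmax⟩ := (Set.toFinite
    {B : Subgroup R | B.Normal ∧ IsElementaryAbelian p B}).exists_le_maximal (a := ⊥)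
    ⟨inferInstance, ⟨inferInstance, fun a ha => by rw [Subgroup.mem_bot] at ha; rw [ha, one_pow]⟩⟩
  haveI := hAn
  have hA2 : Nat.card A ≤ p ^ 2 := card_le_of_metacyclic hm A hA.2
  obtain ⟨k, hk⟩ := (Components.ea_isPGroup hA).exists_card_eq
  have hk2 : k ≤ 2 := by rw [hk] at hA2; exact (Nat.pow_le_pow_iff_right hp.out.one_lt).mp hA2
  have hcen : k ≤ 1 → A ≤ Subgroup.center R := fun hk1 => by
    by_cases hb : A = ⊥
    · rw [hb]; exact bot_le
    obtain ⟨z, hzA, hz1, hzc⟩ := exists_ne_one_mem_center_of_normal A hb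
    have : Subgroup.zpowers z = A := by
      refine Subgroup.eq_of_le_of_card_ge (Subgroup.zpowers_le.mpr hzA) ?_
      rw [Nat.card_zpowers, orderOf_eq_prime (hA.2 z hzA) hz1, hk]
      exact (Nat.pow_le_pow_right hp.out.pos hk1).trans (pow_one p).le
    rw [← this]; exact Subgroup.zpowers_le.mpr hzc
  have hmax : ∀ B : Subgroup R, B.Normal → IsElementaryAbelian p B → A ≤ B → B = A :=
    fun B hB hB' hle => le_antisymm (hAmax ⟨hB, hB'⟩ hle) hle
  have hall : ∀ x : R, x ^ p = 1 → x ∈ A := by
    intro x hx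
    by_cases hxc : x ∈ Subgroup.centralizer (A : Set R)
    · exact mem_of_maximal_normal_ea hp2 hR hAn hA hmax hxc hx
    exfalso
    have hk1 : k = 2 := by
      by_contra h2
      exact hxc ((Subgroup.centralizer_eq_top_iff_subset.mpr (hcen (by omega))).ge (Subgroup.mem_top x))
    subst hk1
    -- commutators with elements of `A` are central
    have hAR : ∀ a ∈ A, ∀ g : R, g * a * g⁻¹ * a⁻¹ ∈ Subgroup.center R := by
      obtain ⟨z, hzA, hz1, hzc⟩ := exists_ne_one_mem_center_of_normal A fun hb => by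
        rw [hb, Subgroup.card_bot] at hk
        exact absurd hk.symm (Nat.one_lt_pow two_ne_zero hp.out.one_lt).ne'
      set Z := Subgroup.zpowers z
      have hZc : Z ≤ Subgroup.center R := Subgroup.zpowers_le.mpr hzc
      haveI : Z.Normal := ⟨fun y hy g => by
        have := hZc hy
        rw [Subgroup.mem_center_iff] at this
        rwa [this g, mul_inv_cancel_right]⟩
      intro a ha g
      refine hZc ?_
      set π := QuotientGroup.mk' Z
      haveI : (A.map π).Normal := hAn.map π (QuotientGroup.mk'_surjective Z)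
      have hne : A.map π ≠ ⊥ := fun h => by
        rw [Subgroup.map_eq_bot_iff, QuotientGroup.ker_mk'] at h
        have h1 := Subgroup.card_le_of_le h
        rw [Nat.card_zpowers, orderOf_eq_prime (hA.2 z hzA) hz1, hk] at h1
        exact absurd h1 (not_le.mpr (lt_self_pow₀ hp.out.one_lt one_lt_two))
      obtain ⟨_, ⟨w, hw, rfl⟩, hw1, hwc⟩ := exists_ne_one_mem_center_of_normal _ hne
      have hcard : Nat.card (Z ⊔ Subgroup.zpowers w : Subgroup R) = Nat.card A := by
        rw [Components.ea_card_sup_zpowers hA (Subgroup.zpowers_le.mpr hzA) hw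
          (fun h => hw1 ((QuotientGroup.eq_one_iff w).mpr h)), Nat.card_zpowers,
          orderOf_eq_prime (hA.2 z hzA) hz1, hk, sq]
      have heq := Subgroup.eq_of_le_of_card_ge
        (sup_le (Subgroup.zpowers_le.mpr hzA) (Subgroup.zpowers_le.mpr hw)) hcard.ge
      have haπ : π a ∈ Subgroup.center (R ⧸ Z) := by
        rw [← heq] at ha
        obtain ⟨u, hu, v, hv, rfl⟩ := Subgroup.mem_sup_of_normal_left.mp ha
        obtain ⟨i, rfl⟩ := hv
        rw [map_mul, show π u = 1 from (QuotientGroup.eq_one_iff u).mpr hu, one_mul, map_zpow]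
        exact zpow_mem hwc i
      refine (QuotientGroup.eq_one_iff _).mp ?_
      show π _ = 1
      rw [map_mul, map_mul, map_mul, map_inv, map_inv, Subgroup.mem_center_iff.mp haπ (π g),
        mul_inv_cancel_right, mul_inv_cancel]
    have hodd : 2 < p := lt_of_le_of_ne hp.out.two_le (Ne.symm hp2)
    obtain ⟨j, hj⟩ := hp.out.dvd_choose_self (by norm_num : (2 : ℕ) ≠ 0) hodd
    have hexp : ∀ y ∈ A ⊔ Subgroup.zpowers x, y ^ p = 1 := by
      intro y hy
      obtain ⟨a, ha, d, hd, rfl⟩ := Subgroup.mem_sup_of_normal_left.mp hy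
      have hdp : d ^ p = 1 := by
        obtain ⟨i, rfl⟩ := hd
        show (x ^ i) ^ p = 1
        rw [← zpow_natCast, ← zpow_mul, mul_comm, zpow_mul, zpow_natCast, hx, one_zpow]
      have hcc := hAR a ha d
      have hcA : d * a * d⁻¹ * a⁻¹ ∈ A := mul_mem (hAn.conj_mem a ha d) (inv_mem ha)
      have hcen' := fun g => Subgroup.mem_center_iff.mp hcc g
      rw [pow_mul_class_two (c := d * a * d⁻¹ * a⁻¹) (x := a) (d := d) (by group) (hcen' a).symm (hcen' d).symm,
        hA.2 a ha, hdp, hj, pow_mul, hA.2 _ hcA, one_pow, one_mul, one_mul]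
    have hle := card_le_of_metacyclic hm _ hexp
    have heq : A = A ⊔ Subgroup.zpowers x := Subgroup.eq_of_le_of_card_ge le_sup_left (hk ▸ hle)
    exact hxc (Subgroup.le_centralizer_iff_isMulCommutative.mpr hA.1
      (heq.ge (Subgroup.mem_sup_right (Subgroup.mem_zpowers x))))
  refine ⟨A, hAn, hA, hall, fun hnc => ?_, hA2⟩
  by_contra hne
  have hk1 : k ≤ 1 := by
    rcases (show k ≤ 1 ∨ k = 2 by omega) with h | h
    · exact h
    · exact absurd (hk.trans (by rw [h])) hne
  refine hnc (OddLocal.isCyclic_of_uniqueOrderP (Nat.card R) hR ?_ (Or.inl hp2) le_rfl)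
  intro a b ha hb ha1
  have hz : Subgroup.zpowers a = A := by
    refine Subgroup.eq_of_le_of_card_ge (Subgroup.zpowers_le.mpr (hall a ha)) ?_
    rw [Nat.card_zpowers, orderOf_eq_prime ha ha1, hk]
    exact (Nat.pow_le_pow_right hp.out.pos hk1).trans (pow_one p).le
  rw [hz]
  exact hall b hb

end Cfsg.Agent.OddLocal.RankTwo
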