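import Cfsg.Agent.OddLocal.RankTwo.SmallAut
import Cfsg.Agent.Core.MinimalNormal
import Cfsg.Agent.Core.PPrimeP
import Cfsg.Agent.Transfer.Basic

/-! Odd solvable groups whose `p`-cores have small automorphism groups. -/

set_option autoImplicit false
set_option linter.style.haveILetI false

namespace Cfsg.Agent.OddLocal.RankTwo

open Cfsg
open scoped commutatorElement

variable {G : Type*} [Group G]

theorem conjNormal_eq_one_iff (P : Subgroup G) [P.Normal] {g : G} :
    (MulAut.conjNormal g : MulAut P) = 1 ↔ g ∈ Subgroup.centralizer (P : Set G) := by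
  rw [Subgroup.mem_centralizer_iff]
  constructor
  · intro h x hx
    have := congrArg Subtype.val (DFunLike.congr_fun h ⟨x, hx⟩)
    simp only [MulAut.conjNormal_apply, MulAut.one_apply] at this
    exact (mul_inv_eq_iff_eq_mul.mp this).symm
  · intro h
    apply MulEquiv.ext
    intro x
    apply Subtype.ext
    simp only [MulAut.conjNormal_apply, MulAut.one_apply]
    exact mul_inv_eq_iff_eq_mul.mpr (h x x.2).symm

theorem OddAutSmall.congr {p : ℕ} {A B : Type*} [Group A] [Group B] (e : A ≃* B) (h : OddAutSmall p A) :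
    OddAutSmall p B := by
  let c : MulAut B ≃* MulAut A := MulAut.congr e.symm
  refine ⟨fun X hodd hs => ?_, fun a ha ha2 hap => ?_⟩
  · let f := X.equivMapOfInjective c.toMonoidHom c.injective
    have h1 := h.1 (X.map c.toMonoidHom) (by rwa [Subgroup.card_map_of_injective c.injective])
      (Group.isSolvable_of_surjective (f := f.toMonoidHom) f.surjective)
    have h2 : (commutator X).map f.toMonoidHom = commutator (X.map c.toMonoidHom) := by
      rw [commutator_def, commutator_def, Subgroup.map_commutator,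
        Subgroup.map_top_of_surjective f.toMonoidHom f.surjective]
    rw [← h2] at h1
    exact h1.of_equiv ((commutator X).equivMapOfInjective f.toMonoidHom f.injective).symm
  · have := h.2 (c a)
    rw [show orderOf (c a) = orderOf a from orderOf_injective c.toMonoidHom c.injective a] at this
    exact this ha ha2 hap

/-- The derived subgroup acts as a `p`-group on `P`. -/
theorem exists_pow_mem_centralizer [Finite G] [Group.IsSolvable G] (hodd : Odd (Nat.card G)) {p : ℕ}
    (P : Subgroup G) [P.Normal] (h : OddAutSmall p P) {x : G} (hx : x ∈ commutator G) :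
    ∃ k, x ^ p ^ k ∈ Subgroup.centralizer (P : Set G) := by
  set f : G →* MulAut P := MulAut.conjNormal
  have h1 := h.1 f.range (hodd.of_dvd_nat (Subgroup.card_range_dvd f))
    (Group.isSolvable_of_surjective f.rangeRestrict_surjective)
  have h2 : f.rangeRestrict x ∈ commutator f.range := by
    rw [commutator_def, ← Subgroup.map_top_of_surjective f.rangeRestrict f.rangeRestrict_surjective,
      ← Subgroup.map_commutator]
    exact ⟨x, hx, rfl⟩
  obtain ⟨k, hk⟩ := h1 ⟨_, h2⟩
  refine ⟨k, (conjNormal_eq_one_iff P).mp ?_⟩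
  have := congrArg (fun z : commutator f.range => ((z : f.range) : MulAut P)) hk
  rw [map_pow]
  simpa [f] using this

variable [Finite G] [Group.IsSolvable G] {p : ℕ} [hp : Fact p.Prime]

/-- The case `O_{p'}(G) = 1`. -/
theorem reduced (hodd : Odd (Nat.card G)) (hp2 : p ≠ 2) (hO : pPrimeCore p G = ⊥)
    (h : OddAutSmall p (pCore p G)) :
    commutator G ≤ pCore p G ∧ ¬ p ∣ (pCore p G).index ∧
      ∀ q : ℕ, q.Prime → q ∣ Nat.card G → q ≤ p := by
  have hC : Subgroup.centralizer (pCore p G : Set G) ≤ pCore p G := Core.centralizer_pCore_le_of_isSolvable hO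
  have hpP := Core.isPGroup_pCore p G
  have hG' : commutator G ≤ pCore p G := by
    refine Core.le_pCore inferInstance fun x => ?_
    obtain ⟨k, hk⟩ := exists_pow_mem_centralizer hodd (pCore p G) h x.2
    obtain ⟨l, hl⟩ := hpP ⟨_, hC hk⟩
    refine ⟨k + l, Subtype.ext ?_⟩
    have := congrArg Subtype.val hl
    simpa [pow_add, pow_mul] using this
  refine ⟨hG', ?_, fun q hq hqd => ?_⟩
  · obtain ⟨S⟩ := (inferInstance : Nonempty (Sylow p G))
    haveI hSn : (S : Subgroup G).Normal := ⟨fun s hs g => by
      have hm : ⁅g, s⁆ ∈ (S : Subgroup G) := Core.pCore_le_sylow S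
        (hG' (Subgroup.commutator_mem_commutator (Subgroup.mem_top g) (Subgroup.mem_top s)))
      simpa [commutatorElement_def] using mul_mem hm hs⟩
    rw [le_antisymm (Core.pCore_le_sylow S) (Core.le_pCore hSn S.isPGroup')]
    exact S.not_dvd_index
  · by_contra hle
    haveI := Fact.mk hq
    obtain ⟨a, ha⟩ := exists_prime_orderOf_dvd_card' q hqd
    set f : G →* MulAut (pCore p G) := MulAut.conjNormal
    have hne : f a ≠ 1 := fun he => by
      obtain ⟨k, hk⟩ := hpP ⟨a, hC ((conjNormal_eq_one_iff _).mp he)⟩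
      have hd : q ∣ p ^ k := ha ▸ orderOf_dvd_of_pow_eq_one (by simpa using congrArg Subtype.val hk)
      exact hle (Nat.le_of_dvd hp.out.pos (hq.dvd_of_dvd_pow hd))
    have hfo : orderOf (f a) = q :=
      ((Nat.dvd_prime hq).mp (ha ▸ orderOf_map_dvd f a)).resolve_left fun h1 => hne (orderOf_eq_one_iff.mp h1)
    have hq2 : q ≠ 2 := fun h2 => by
      have := hodd.of_dvd_nat hqd
      rw [h2] at this
      exact absurd this (by decide)
    have := h.lt hp2 (a := f a) (hfo ▸ hq) (by rw [hfo]; exact hq2) (by rw [hfo]; omega)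
    omega

omit [Finite G] [Group.IsSolvable G] in
theorem ne_two_of_dvd (hodd : Odd (Nat.card G)) (hpG : p ∣ Nat.card G) : p ≠ 2 := fun h => by
  have := hodd.of_dvd_nat hpG
  rw [h] at this
  exact absurd this (by decide)

/-- Structure of `G` when the `p`-core of `G / O_{p'}(G)` has small automorphism group. -/
theorem five (hodd : Odd (Nat.card G)) (hpG : p ∣ Nat.card G)
    (h : OddAutSmall p (pCore p (G ⧸ pPrimeCore p G))) :
    (∀ q : ℕ, q.Prime → q ∣ (pPrimeCore p G).index → q ≤ p) ∧
      ((p = 3 ∨ ∀ q : ℕ, q.Prime → q ∣ Nat.card G → p ≤ q) → HasNormalPComplement p G) ∧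
      HasNormalPComplement p ↥(commutator G) ∧
      (∀ L : Subgroup ↥(commutator G), (Nat.card L).Coprime p → L ≤ pPrimeCore p ↥(commutator G)) ∧
      commutator G ≤ pPrimePCore p G ∧ ((pPrimePCore p G).index).Coprime p := by
  set O := pPrimeCore p G with hOdef
  have hp2 := ne_two_of_dvd hodd hpG
  have hodd' : Odd (Nat.card (G ⧸ O)) := hodd.of_dvd_nat (Subgroup.card_quotient_dvd_card O)
  obtain ⟨h1, h2, h3⟩ := reduced hodd' hp2 (Core.pPrimeCore_quotient_pPrimeCore p G) h
  set π := QuotientGroup.mk' O with hπ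
  have hle : commutator G ≤ pPrimePCore p G := by
    rw [pPrimePCore, ← Subgroup.map_le_iff_le_comap, commutator_def, Subgroup.map_commutator,
      Subgroup.map_top_of_surjective _ (QuotientGroup.mk'_surjective O), ← commutator_def]
    exact h1
  refine ⟨fun q hq hqd => h3 q hq (by rwa [← Subgroup.index_eq_card]), fun hcase => ?_, ?_, ?_, hle, ?_⟩
  · refine Transfer.hasNormalPComplement_of_normal (N := O) (Core.card_pPrimeCore_coprime p G) ?_
    refine IsPGroup.of_card (Nat.eq_prime_pow_of_unique_prime_dvd Nat.card_pos.ne' fun {q} hq hqd => ?_)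
    have hqp := h3 q hq hqd
    have hqG : q ∣ Nat.card G := hqd.trans (Subgroup.card_quotient_dvd_card O)
    rcases hcase with rfl | hmin
    · have hq2 : q ≠ 2 := fun h2 => by
        have := hodd.of_dvd_nat hqG
        rw [h2] at this
        exact absurd this (by decide)
      have := hq.two_le
      omega
    · exact le_antisymm hqp (hmin q hq hqG)
  · show HasNormalPComplement p ↥(commutator G)
    set ψ : commutator G →* pCore p (G ⧸ O) := (π.comp (commutator G).subtype).codRestrict _
      (fun x => by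
        have := hle x.2
        rw [pPrimePCore, Subgroup.mem_comap] at this
        exact this)
    refine Transfer.hasNormalPComplement_of_normal (N := ψ.ker) ?_
      ((Core.isPGroup_pCore p _).of_injective _ (QuotientGroup.kerLift_injective ψ))
    refine Nat.Coprime.coprime_dvd_left ?_ (Core.card_pPrimeCore_coprime p G)
    rw [← Core.card_map_subtype]
    refine Subgroup.card_dvd_of_le ?_
    rintro _ ⟨x, hx, rfl⟩
    exact (QuotientGroup.eq_one_iff (x : G)).mp (congrArg Subtype.val hx)
  · intro L hL l hl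
    have hmem : π (l : G) ∈ pCore p (G ⧸ O) := by
      have := hle l.2
      rw [pPrimePCore, Subgroup.mem_comap] at this
      exact this
    obtain ⟨k, hk⟩ := Core.isPGroup_pCore p _ ⟨_, hmem⟩
    have hk' : π (l : G) ^ p ^ k = 1 := by simpa using congrArg Subtype.val hk
    have hd : orderOf (π (l : G)) ∣ Nat.card L := by
      refine (orderOf_map_dvd π _).trans ?_
      rw [Subgroup.orderOf_coe]
      exact Subgroup.orderOf_dvd_natCard L hl
    have h1 : π (l : G) = 1 := orderOf_eq_one_iff.mp
      (Nat.eq_one_of_dvd_coprimes (hL.pow_right k) hd (orderOf_dvd_of_pow_eq_one hk'))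
    have hn : O.subgroupOf (commutator G) ≤ pPrimeCore p ↥(commutator G) :=
      Core.le_pPrimeCore inferInstance ((Core.card_pPrimeCore_coprime p G).coprime_dvd_left
        (by rw [← Core.card_map_subtype, Subgroup.subgroupOf_map_subtype]
            exact Subgroup.card_dvd_of_le inf_le_left))
    exact hn ((Subgroup.mem_subgroupOf.mpr ((QuotientGroup.eq_one_iff (l : G)).mp h1)))
  · rw [pPrimePCore, Subgroup.index_comap_of_surjective _ (QuotientGroup.mk'_surjective O)]
    exact (hp.out.coprime_iff_not_dvd.mpr h2).symm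

omit [Group.IsSolvable G] in
/-- Passing the rank bound to the `p`-core of `G / O_{p'}(G)`. -/
theorem exists_embedding_core (S : Sylow p G) :
    ∃ f : pCore p (G ⧸ pPrimeCore p G) →* (S : Subgroup G), Function.Injective f ∧
      ((pCore p (G ⧸ pPrimeCore p G)).index.Coprime p → Function.Surjective f) := by
  set O := pPrimeCore p G
  set π := QuotientGroup.mk' O
  set S' := S.mapSurjective (QuotientGroup.mk'_surjective O) with hS'
  set g : (S : Subgroup G) →* G ⧸ O := π.comp (S : Subgroup G).subtype with hg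
  have hgi : Function.Injective g := by
    rw [← MonoidHom.ker_eq_bot_iff, eq_bot_iff]
    intro x hx
    obtain ⟨k, hk⟩ := S.isPGroup' x
    have hd : orderOf x ∣ Nat.card O := by
      rw [← Subgroup.orderOf_coe]
      exact Subgroup.orderOf_dvd_natCard O ((QuotientGroup.eq_one_iff (x : G)).mp hx)
    exact Subgroup.mem_bot.mpr (orderOf_eq_one_iff.mp (Nat.eq_one_of_dvd_coprimes
      ((Core.card_pPrimeCore_coprime p G).pow_right k) hd (orderOf_dvd_of_pow_eq_one hk)))
  have hgr : g.range = (S' : Subgroup (G ⧸ O)) := by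
    rw [hg, MonoidHom.range_comp, Subgroup.range_subtype]
    rfl
  have hle : pCore p (G ⧸ O) ≤ g.range := hgr ▸ Core.pCore_le_sylow S'
  let e := MonoidHom.ofInjective hgi
  refine ⟨e.symm.toMonoidHom.comp (Subgroup.inclusion hle),
    e.symm.injective.comp (Subgroup.inclusion_injective hle), fun hidx => ?_⟩
  have heq : pCore p (G ⧸ O) = g.range := by
    refine le_antisymm hle ?_
    have := Core.sylow_eq_of_normal_of_not_dvd_index (Core.isPGroup_pCore p (G ⧸ O))
      (fun hd => hp.out.one_lt.ne' (Nat.eq_one_of_dvd_coprimes hidx hd dvd_rfl)) S'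
    rw [hgr, this]
  intro y
  have hm : (e y : G ⧸ O) ∈ pCore p (G ⧸ O) := heq.ge (e y).2
  exact ⟨⟨(e y : G ⧸ O), hm⟩, by
    show e.symm (Subgroup.inclusion hle _) = y
    rw [show Subgroup.inclusion hle ⟨(e y : G ⧸ O), hm⟩ = e y from Subtype.ext rfl,
      MulEquiv.symm_apply_apply]⟩

/-- If every `p`-core has small automorphism group then the derived subgroup is nilpotent. -/
theorem commutator_le_fitting (hodd : Odd (Nat.card G))
    (h : ∀ q : ℕ, q.Prime → q ≠ 2 → OddAutSmall q (pCore q G)) : commutator G ≤ fittingSubgroup G := by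
  refine Core.le_of_forall_exists_sylow_le fun q hq => ?_
  haveI := Fact.mk hq
  obtain ⟨Q⟩ := (inferInstance : Nonempty (Sylow q ↥(commutator G)))
  refine ⟨Q, ?_⟩
  set D : Subgroup G := ⨆ s : {s : Nat.Primes // (s : ℕ) ≠ q}, pCore (s : Nat.Primes) G with hD
  haveI : D.Normal := Subgroup.iSup_normal _
  set Hq := commutator G ⊓ Subgroup.centralizer (D : Set G) with hHq
  haveI : (Subgroup.centralizer (D : Set G)).Normal := Subgroup.normal_centralizer
  haveI hHn : Hq.Normal := inferInstance
  have two : ∀ s : ℕ, s.Prime → s = 2 → pCore s G = ⊥ := by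
    rintro s hs rfl
    haveI := Fact.mk hs
    obtain ⟨k, hk⟩ := Core.card_pCore_eq_pow 2 G
    refine Subgroup.card_eq_one.mp ?_
    rcases Nat.eq_zero_or_pos k with rfl | hk0
    · simpa using hk
    · have := hodd.of_dvd_nat (Subgroup.card_subgroup_dvd_card (pCore 2 G))
      rw [hk] at this
      exact absurd ((Nat.odd_pow_iff hk0.ne').mp this) (by decide)
  refine le_trans (le_inf (Subgroup.map_subtype_le _) ?_ : (Q : Subgroup ↥(commutator G)).map _ ≤ Hq)
    (Core.le_fittingSubgroup hHn ?_)
  · rintro _ ⟨x, hx, rfl⟩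
    rw [← Subgroup.zpowers_le, Subgroup.le_centralizer_iff]
    refine iSup_le fun s => Subgroup.le_centralizer_iff.mp (Subgroup.zpowers_le.mpr ?_)
    by_cases hs2 : ((s : Nat.Primes) : ℕ) = 2
    · rw [two _ s.1.2 hs2]
      exact Subgroup.mem_centralizer_iff.mpr fun y hy => by
        rw [SetLike.mem_coe, Subgroup.mem_bot] at hy; simp [hy]
    obtain ⟨k, hk⟩ := exists_pow_mem_centralizer hodd (pCore (s : Nat.Primes) G) (h _ s.1.2 hs2) x.2
    obtain ⟨n, hn⟩ := Q.isPGroup' ⟨x, hx⟩
    have hn' : (x : G) ^ q ^ n = 1 := by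
      simpa using congrArg (fun z : (Q : Subgroup ↥(commutator G)) => ((z : ↥(commutator G)) : G)) hn
    have hcop : Nat.Coprime (q ^ n) (((s : Nat.Primes) : ℕ) ^ k) :=
      Nat.Coprime.pow _ _ ((Nat.coprime_primes hq s.1.2).mpr (Ne.symm s.2))
    refine (conjNormal_eq_one_iff _).mp (orderOf_eq_one_iff.mp (Nat.eq_one_of_dvd_coprimes hcop ?_ ?_))
    · exact orderOf_dvd_of_pow_eq_one (by rw [← map_pow]; exact hn' ▸ map_one _)
    · exact orderOf_dvd_of_pow_eq_one (by rw [← map_pow]; exact (conjNormal_eq_one_iff _).mpr hk)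
  · have hFle : fittingSubgroup G ≤ pCore q G ⊔ D := by
      rw [Core.fittingSubgroup_eq_iSup]
      refine iSup_le fun s => ?_
      rcases eq_or_ne (s : ℕ) q with hs | hs
      · rw [hs]; exact le_sup_left
      · exact le_sup_of_le_right (le_iSup (fun s : {s : Nat.Primes // (s : ℕ) ≠ q} => pCore (s : Nat.Primes) G) ⟨s, hs⟩)
    have hUD : pCore q G ≤ Subgroup.centralizer (D : Set G) := by
      rw [Subgroup.le_centralizer_iff]
      refine iSup_le fun s => Subgroup.le_centralizer_iff.mp ((Core.pCore_le_centralizer_pPrimeCore q G).trans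
        (Subgroup.centralizer_le ?_))
      haveI := Fact.mk s.1.2
      exact Core.pCore_le_pPrimeCore_of_ne s.2
    set K : Subgroup Hq := D.subgroupOf Hq
    have hK : K ≤ Subgroup.center Hq := fun d hd => Subgroup.mem_center_iff.mpr fun y =>
      Subtype.ext (Subgroup.mem_centralizer_iff.mp y.2.2 d hd).symm
    suffices hq' : IsPGroup q (Hq ⧸ K) by
      haveI := hq'.isNilpotent
      exact Subgroup.isNilpotent_of_ker_le_center (QuotientGroup.mk' K) (by rwa [QuotientGroup.ker_mk'])
    intro x
    obtain ⟨x, rfl⟩ := QuotientGroup.mk'_surjective K x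
    obtain ⟨k, hk⟩ : ∃ k, (x : G) ^ q ^ k ∈ Subgroup.centralizer (pCore q G : Set G) := by
      by_cases hq2 : q = 2
      · refine ⟨0, Subgroup.mem_centralizer_iff.mpr fun y hy => ?_⟩
        rw [two q hq hq2, SetLike.mem_coe, Subgroup.mem_bot] at hy
        simp [hy]
      exact exists_pow_mem_centralizer hodd (pCore q G) (h q hq hq2) x.2.1
    have hc : (x : G) ^ q ^ k ∈ Subgroup.centralizer (fittingSubgroup G : Set G) := by
      refine Subgroup.centralizer_le hFle ?_
      rw [← Subgroup.zpowers_le, Subgroup.le_centralizer_iff]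
      exact sup_le (Subgroup.le_centralizer_iff.mp (Subgroup.zpowers_le.mpr hk))
        (Subgroup.le_centralizer_iff.mp (Subgroup.zpowers_le.mpr (pow_mem x.2.2 _)))
    obtain ⟨u, hu, d, hd, hud⟩ := Subgroup.mem_sup_of_normal_left.mp (hFle (Core.centralizer_fittingSubgroup_le hc))
    obtain ⟨a, ha⟩ := Core.isPGroup_pCore q G ⟨u, hu⟩
    have hcomm : Commute u d := (Subgroup.mem_centralizer_iff.mp (hUD hu) d hd).symm
    refine ⟨k + a, ?_⟩
    rw [← map_pow]
    refine (QuotientGroup.eq_one_iff _).mpr ?_
    show ((x ^ q ^ (k + a) : Hq) : G) ∈ D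
    rw [Subgroup.coe_pow, pow_add, pow_mul, ← hud, hcomm.mul_pow,
      show u ^ q ^ a = 1 by simpa using congrArg Subtype.val ha, one_mul]
    exact pow_mem hd _

end Cfsg.Agent.OddLocal.RankTwo
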