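import Cfsg.Agent.OddLocal.RankTwo.Narrow
import Cfsg.Agent.OddLocal.RankTwo.OddSolvable

/-! Automorphisms of narrow `p`-groups. -/

set_option autoImplicit false
set_option linter.style.haveILetI false

namespace Cfsg.Agent.OddLocal.RankTwo

open Cfsg
open scoped commutatorElement

variable {R : Type*} [Group R]

/-- The automorphisms induced on a section by two characteristic subgroups. -/
def autSection (M N : Subgroup R) [hM : M.Characteristic] [hN : N.Characteristic] :
    MulAut R →* MulAut (M ⧸ N.subgroupOf M) :=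
  MonoidHom.mk'
    (fun e => QuotientGroup.congr (N.subgroupOf M) (N.subgroupOf M) (autRestrict M e) (by
      have he := Subgroup.characteristic_iff_map_eq.mp hN e
      ext ⟨y, hy⟩
      simp only [Subgroup.mem_map, Subgroup.mem_subgroupOf]
      constructor
      · rintro ⟨x, hx, hxy⟩
        have h : e (x : R) = y := congrArg Subtype.val hxy
        rw [← h, ← he]
        exact ⟨x, hx, rfl⟩
      · intro hy'
        rw [← he] at hy'
        obtain ⟨x, hx, hxy⟩ := hy'
        have hxM : x ∈ M := by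
          have := Subgroup.characteristic_iff_comap_eq.mp hM e
          rw [← this, Subgroup.mem_comap]
          show e x ∈ M
          exact hxy ▸ hy
        exact ⟨⟨x, hxM⟩, hx, Subtype.ext hxy⟩))
    fun _ _ => MulEquiv.ext fun x => QuotientGroup.induction_on x fun _ => rfl

theorem autSection_apply (M N : Subgroup R) [M.Characteristic] [N.Characteristic] (e : MulAut R) (x : M) :
    autSection M N e (QuotientGroup.mk x) = QuotientGroup.mk (autRestrict M e x) := rfl

theorem mulAut_small [Finite R] {p : ℕ} [hp : Fact p.Prime] (hR : IsPGroup p R) (hle : Nat.card R ≤ p) :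
    (∀ a b : MulAut R, a * b = b * a) ∧ ∀ a : MulAut R, a ^ (p - 1) = 1 := by
  obtain ⟨k, hk⟩ := hR.exists_card_eq
  have hk1 : k ≤ 1 := by
    rw [hk] at hle
    exact (Nat.pow_le_pow_iff_right hp.out.one_lt).mp (hle.trans (pow_one p).ge)
  haveI : IsCyclic R := by
    rcases (show k = 0 ∨ k = 1 by omega) with rfl | rfl
    · haveI : Subsingleton R := (Nat.card_eq_one_iff_unique.mp (by rw [hk, pow_zero])).1
      infer_instance
    · exact isCyclic_of_prime_card (by rw [hk, pow_one])
  refine ⟨fun a b => (IsCyclic.mulAutMulEquiv R).injective (by rw [map_mul, map_mul, mul_comm]), fun a => ?_⟩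
  refine orderOf_dvd_iff_pow_eq_one.mp ((orderOf_dvd_natCard a).trans ?_)
  rw [IsCyclic.card_mulAut, hk]
  rcases (show k = 0 ∨ k = 1 by omega) with rfl | rfl
  · simp
  · rw [pow_one, Nat.totient_prime hp.out]

variable [Finite R] {p : ℕ} [hp : Fact p.Prime]

/-- For a maximal elementary abelian subgroup of order `p ^ 2` in rank at least three, the
automorphisms are, up to `p`-elements, abelian of exponent dividing `p - 1`. -/
theorem aut_of_maxEASq (hp2 : p ≠ 2) (hR : IsPGroup p R) (hr : ¬ PRankLE p 2 R) {E : Subgroup R}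
    (hE : MaxEASq p E) :
    (∀ a : MulAut R, (orderOf a).Coprime p → orderOf a ∣ p - 1) ∧
      ∀ X : Subgroup (MulAut R), IsPGroup p (commutator X) := by
  classical
  haveI := hR.isNilpotent
  obtain ⟨hnle, hZp, -, hTchar, hTidx⟩ := secondCenter_structure hp2 hR hr hE
  set T := Subgroup.centralizer
    ((Subgroup.closure {x : R | x ∈ Subgroup.upperCentralSeries R 2 ∧ x ^ p = 1} : Subgroup R) : Set R)
  haveI := hTchar
  set Z := Subgroup.closure {x : R | x ∈ Subgroup.center R ∧ x ^ p = 1} with hZdef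
  have hZc : Z ≤ Subgroup.center R := (Subgroup.closure_le _).mpr fun x hx => hx.1
  have hZE : Z ≤ E := (Subgroup.closure_le _).mpr fun x hx =>
    hE.mem hx.2 (Subgroup.mem_centralizer_iff.mpr fun y _ => Subgroup.mem_center_iff.mp hx.1 y)
  obtain ⟨e, heE, heT⟩ := SetLike.not_le_iff_exists.mp hnle
  have hZT : Z ≤ T := fun z hz => Subgroup.mem_centralizer_iff.mpr fun y _ =>
    Subgroup.mem_center_iff.mp (hZc hz) y
  have heZ : e ∉ Z := fun h => heT (hZT h)
  have hEgen : Z ⊔ Subgroup.zpowers e = E := by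
    refine Subgroup.eq_of_le_of_card_ge (sup_le hZE (Subgroup.zpowers_le.mpr heE)) ?_
    rw [Components.ea_card_sup_zpowers hE.1 hZE heE heZ, hZp, hE.2.1, sq]
  have hET : E ⊓ T ≤ Z := by
    intro x hx
    by_contra hxZ
    have h1 : Z ⊔ Subgroup.zpowers x = E := by
      refine Subgroup.eq_of_le_of_card_ge (sup_le hZE (Subgroup.zpowers_le.mpr hx.1)) ?_
      rw [Components.ea_card_sup_zpowers hE.1 hZE hx.1 hxZ, hZp, hE.2.1, sq]
    exact hnle (h1.ge.trans (sup_le hZT (Subgroup.zpowers_le.mpr hx.2)))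
  obtain ⟨Q, hQc, hQexp, hQf⟩ := exists_faithful_exponent hp2 hR
  haveI := hQc
  have hcard : ∀ N : Subgroup R, N.Normal → N ≤ Q ⊓ T →
      Nat.card N ≤ p * Nat.card ↥⁅N, (⊤ : Subgroup R)⁆ := by
    intro N _ hNQ
    set Cn := (Subgroup.centralizer ({e} : Set R)).subgroupOf N
    have hCn : Nat.card Cn ≤ p := by
      rw [← hZp]
      refine Nat.card_le_card_of_injective (fun c => ⟨c.1.1, hET ⟨hE.mem (hQexp _ (hNQ c.1.2).1) ?_, (hNQ c.1.2).2⟩⟩)
        fun c d hcd => Subtype.ext (Subtype.ext (congrArg Subtype.val hcd :))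
      rw [← hEgen, ← Subgroup.zpowers_le, Subgroup.le_centralizer_iff]
      refine sup_le (fun z hz => Subgroup.mem_centralizer_iff.mpr fun v _ => Subgroup.mem_center_iff.mp (hZc hz) v) ?_
      rw [Subgroup.zpowers_le, Subgroup.mem_centralizer_iff]
      rintro _ ⟨i, rfl⟩
      have h := Subgroup.mem_centralizer_singleton_iff.mp (Subgroup.mem_subgroupOf.mp c.2)
      exact ((show Commute (c.1 : R) e from h).zpow_left i).eq
    let f : N ⧸ Cn → ↥⁅N, (⊤ : Subgroup R)⁆ :=
      Quotient.lift (fun n : N => ⟨⁅(n : R), e⁆, Subgroup.commutator_mem_commutator n.2 (Subgroup.mem_top e)⟩)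
        (fun a b hab => by
          have h0 : a⁻¹ * b ∈ Cn := QuotientGroup.leftRel_apply.mp hab
          have h := Subgroup.mem_centralizer_singleton_iff.mp (Subgroup.mem_subgroupOf.mp h0)
          apply Subtype.ext
          show ⁅(a : R), e⁆ = ⁅(b : R), e⁆
          simp only [Subgroup.coe_mul, InvMemClass.coe_inv] at h
          rw [commutatorElement_def, commutatorElement_def]
          congr 1
          calc (a : R) * e * (a : R)⁻¹ = (a : R) * (e * ((a : R)⁻¹ * b)) * (b : R)⁻¹ := by group
            _ = (a : R) * (((a : R)⁻¹ * b) * e) * (b : R)⁻¹ := by rw [h]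
            _ = _ := by group)
    have hf : Function.Injective f := by
      intro a b
      induction a using QuotientGroup.induction_on with
      | H a =>
        induction b using QuotientGroup.induction_on with
        | H b =>
          intro hab
          have h' : ⁅(a : R), e⁆ = ⁅(b : R), e⁆ := congrArg Subtype.val hab
          rw [commutatorElement_def, commutatorElement_def] at h'
          have h'' : (a : R) * e * (a : R)⁻¹ = (b : R) * e * (b : R)⁻¹ := mul_right_cancel h'
          refine QuotientGroup.eq.mpr (Subgroup.mem_subgroupOf.mpr (Subgroup.mem_centralizer_singleton_iff.mpr ?_))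
          simp only [Subgroup.coe_mul, InvMemClass.coe_inv]
          calc (a : R)⁻¹ * b * e = (a : R)⁻¹ * ((b : R) * e * (b : R)⁻¹) * b := by group
            _ = (a : R)⁻¹ * ((a : R) * e * (a : R)⁻¹) * b := by rw [h'']
            _ = _ := by group
    rw [← Subgroup.card_mul_index Cn]
    exact Nat.mul_le_mul hCn (Nat.card_le_card_of_injective f hf)
  obtain ⟨c, hc0, hc1, hcs⟩ : ∃ c : ℕ → Subgroup R, c 0 = Q ∧ c 1 = Q ⊓ T ∧
      ∀ i, c (i + 2) = ⁅c (i + 1), (⊤ : Subgroup R)⁆ :=
    ⟨fun i => Nat.recOn (motive := fun _ => Subgroup R) i Q fun j N => if j = 0 then Q ⊓ T else ⁅N, ⊤⁆,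
      rfl, rfl, fun _ => rfl⟩
  have hchar : ∀ i, (c i).Characteristic := by
    intro i
    induction i with
    | zero => rw [hc0]; exact hQc
    | succ i ih =>
      rcases Nat.eq_zero_or_pos i with rfl | hi
      · rw [zero_add, hc1]
        exact Subgroup.characteristic_iff_le_comap.mpr fun φ x hx =>
          ⟨Subgroup.characteristic_iff_le_comap.mp hQc φ hx.1, Subgroup.characteristic_iff_le_comap.mp hTchar φ hx.2⟩
      · obtain ⟨j, rfl⟩ : ∃ j, i = j + 1 := ⟨i - 1, by omega⟩
        rw [hcs]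
        haveI := ih
        exact Subgroup.commutator_characteristic _ _
  haveI := hchar
  haveI : ∀ i, (c i).Normal := fun i => haveI := hchar i; inferInstance
  have hanti : ∀ i, c (i + 1) ≤ c i := by
    intro i
    rcases Nat.eq_zero_or_pos i with rfl | hi
    · rw [zero_add, hc1, hc0]; exact inf_le_left
    · obtain ⟨j, rfl⟩ : ∃ j, i = j + 1 := ⟨i - 1, by omega⟩
      rw [hcs]
      exact Subgroup.commutator_le_left _ _
  have hle1 : ∀ i, c (i + 1) ≤ Q ⊓ T := by
    intro i
    induction i with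
    | zero => exact hc1.le
    | succ i ih => exact (hanti _).trans ih
  have hfac : ∀ i, Nat.card (c i) ≤ p * Nat.card (c (i + 1)) := by
    intro i
    rcases Nat.eq_zero_or_pos i with rfl | hi
    · rw [zero_add, hc1, hc0]
      have h1 := Components.card_mul_relIndex' (inf_le_left : Q ⊓ T ≤ Q)
      rw [Subgroup.inf_relIndex_left] at h1
      rw [← h1, mul_comm p]
      refine Nat.mul_le_mul_left _ (le_of_le_of_eq (Nat.le_of_dvd ?_ (Subgroup.relIndex_dvd_index_of_normal _ _)) hTidx)
      rw [hTidx]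
      exact hp.out.pos
    · obtain ⟨j, rfl⟩ : ∃ j, i = j + 1 := ⟨i - 1, by omega⟩
      rw [hcs]
      exact hcard _ inferInstance (hle1 j)
  obtain ⟨n, hn⟩ : ∃ n, c (n + 1) = ⊥ := by
    obtain ⟨n, hn⟩ := Subgroup.nilpotent_iff_lowerCentralSeries.mp hR.isNilpotent
    refine ⟨n, eq_bot_iff.mpr (hn ▸ ?_)⟩
    clear hn
    induction n with
    | zero => exact le_top
    | succ n ih =>
      rw [hcs, Subgroup.lowerCentralSeries_succ]
      exact Subgroup.commutator_mono ih le_rfl
  have hsec : ∀ i, Nat.card (c i ⧸ (c (i + 1)).subgroupOf (c i)) ≤ p := by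
    intro i
    have h1 := Subgroup.card_mul_index ((c (i + 1)).subgroupOf (c i))
    rw [Nat.card_congr (Subgroup.subgroupOfEquivOfLe (hanti i)).toEquiv] at h1
    have h2 := hfac i
    rw [← h1, mul_comm p] at h2
    rw [← Subgroup.index_eq_card]
    exact Nat.le_of_mul_le_mul_left h2 Nat.card_pos
  have hsmall := fun i => mulAut_small ((hR.to_subgroup (c i)).to_quotient ((c (i + 1)).subgroupOf (c i))) (hsec i)
  have hK : ∀ a : MulAut R, (orderOf a).Coprime p → (∀ i, autSection (c i) (c (i + 1)) a = 1) → a = 1 := by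
    intro a ha h
    have key : ∀ k i, i + k = n + 1 → ∀ x ∈ c i, a x = x := by
      intro k
      induction k with
      | zero =>
        intro i hi x hx
        rw [show i = n + 1 by omega, hn, Subgroup.mem_bot] at hx
        rw [hx, map_one]
      | succ k ih =>
        intro i hi x hx
        refine fix_of_shift hR a ha (ih (i + 1) (by omega) _ ?_)
        have h1 := DFunLike.congr_fun (h i) (QuotientGroup.mk (⟨x, hx⟩ : c i))
        rw [autSection_apply, MulAut.one_apply] at h1
        have h2 := Subgroup.mem_subgroupOf.mp (QuotientGroup.eq.mp h1.symm)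
        simpa [autRestrict_apply] using h2
    exact hQf a ha fun x hx => key (n + 1) 0 (by omega) x (hc0.symm ▸ hx)
  refine ⟨fun a ha => orderOf_dvd_iff_pow_eq_one.mpr (hK _ (ha.coprime_dvd_left (orderOf_pow_dvd _)) fun i => ?_),
    fun X x => ?_⟩
  · rw [map_pow]
    exact (hsmall i).2 _
  · set y : MulAut R := ((x : X) : MulAut R) with hy
    obtain ⟨e', m, hm, hord⟩ := Nat.exists_eq_pow_mul_and_not_dvd (orderOf_pos y).ne' p hp.out.ne_one
    refine ⟨e', Subtype.ext (Subtype.ext ?_)⟩
    have hz : y ^ p ^ e' = 1 := by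
      refine hK _ ?_ fun i => ?_
      · refine Nat.Coprime.coprime_dvd_left (orderOf_dvd_of_pow_eq_one (n := m) ?_)
          (hp.out.coprime_iff_not_dvd.mpr hm).symm
        rw [← pow_mul, ← hord, pow_orderOf_eq_one]
      · set g := (autSection (c i) (c (i + 1))).comp X.subtype
        have hle : commutator X ≤ g.ker := by
          rw [commutator_def, Subgroup.commutator_le]
          intro u _ v _
          rw [MonoidHom.mem_ker, map_commutatorElement, commutatorElement_eq_one_iff_mul_comm]
          exact (hsmall i).1 _ _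
        rw [map_pow, show autSection (c i) (c (i + 1)) y = 1 from hle x.2, one_pow]
    simpa [hy] using hz

/-- A narrow `p`-group of rank at least three has a maximal elementary abelian subgroup of order `p ^ 2`. -/
theorem exists_maxEASq_of_narrow (hR : IsPGroup p R) (hN : IsNarrow p R) (hr : ¬ PRankLE p 2 R) :
    ∃ E : Subgroup R, MaxEASq p E := by
  haveI := hR.isNilpotent
  rcases hN with h | ⟨R₀, R₁, hR₀, hR₁, hinf, hcomm, hsup⟩
  · exact absurd h hr
  have h01 : R₀ ≤ Subgroup.centralizer (R₁ : Set R) := fun a ha =>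
    Subgroup.mem_centralizer_iff.mpr fun b hb => (hcomm a ha b hb).symm
  haveI := isCyclic_of_prime_card hR₀
  have hR₀c : IsMulCommutative R₀ := inferInstance
  have hR₀p : ∀ a ∈ R₀, a ^ p = 1 := fun a ha =>
    orderOf_dvd_iff_pow_eq_one.mp (hR₀ ▸ Subgroup.orderOf_dvd_natCard R₀ ha)
  have hR₁ne : R₁ ≠ ⊥ := by
    intro h
    rw [h, sup_bot_eq] at hsup
    have hzc : Subgroup.center R ≤ R₀ := hsup ▸ Subgroup.center_le_centralizer _
    have hne : (Subgroup.center R : Subgroup R) ≠ ⊥ := by
      haveI : Nontrivial R := by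
        by_contra hnt
        rw [not_nontrivial_iff_subsingleton] at hnt
        exact hp.out.one_lt.ne' (hR₀ ▸ Nat.card_of_subsingleton (1 : R₀))
      haveI := hR.center_nontrivial
      exact (Subgroup.nontrivial_iff_ne_bot _).mp inferInstance
    haveI : Fact (Nat.card R₀).Prime := ⟨hR₀ ▸ hp.out⟩
    rcases ((Subgroup.center R).subgroupOf R₀).eq_bot_or_eq_top_of_prime_card with h' | h'
    · exact hne (by rw [← inf_eq_left.mpr hzc, ← Subgroup.subgroupOf_map_subtype, h', Subgroup.map_bot])
    · have hle : R₀ ≤ Subgroup.center R := Subgroup.subgroupOf_eq_top.mp h'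
      have htop : R₀ = ⊤ := hsup.trans (Subgroup.centralizer_eq_top_iff_subset.mpr hle)
      refine hr fun A _ _ => (Subgroup.card_le_of_le (htop ▸ le_top)).trans ?_
      rw [hR₀]
      exact Nat.le_self_pow two_ne_zero p
  haveI := hR₁
  obtain ⟨z, hz⟩ : ∃ z : R₁, orderOf z = p := by
    apply exists_prime_orderOf_dvd_card'
    obtain ⟨k, hk⟩ := (hR.to_subgroup R₁).exists_card_eq
    rw [hk]
    exact dvd_pow_self p fun h0 => hR₁ne (Subgroup.card_eq_one.mp (by rw [hk, h0, pow_zero]))
  have hzp : (z : R) ^ p = 1 := by rw [← hz, ← Subgroup.orderOf_coe, pow_orderOf_eq_one]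
  have hz1 : (z : R) ≠ 1 := fun h => hp.out.ne_one (by rw [← hz, ← Subgroup.orderOf_coe, h, orderOf_one])
  have hzR₀ : (z : R) ∉ R₀ := fun h => hz1 (Subgroup.mem_bot.mp (hinf ▸ ⟨h, z.2⟩))
  have hzC : (z : R) ∈ Subgroup.centralizer (R₀ : Set R) := hsup ▸ Subgroup.mem_sup_right z.2
  have hea : IsElementaryAbelian p (R₀ ⊔ Subgroup.zpowers (z : R)) := ea_insert ⟨hR₀c, hR₀p⟩ hzp hzC
  refine ⟨R₀ ⊔ Subgroup.zpowers (z : R), hea, ?_, fun B hB hle => le_antisymm (fun b hb => ?_) hle⟩
  · rw [Components.ea_card_sup_zpowers hea le_sup_left (Subgroup.mem_sup_right (Subgroup.mem_zpowers _)) hzR₀,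
      hR₀, sq]
  · have hbC : b ∈ R₀ ⊔ R₁ := hsup ▸ Subgroup.mem_centralizer_iff.mpr fun y hy =>
      PLocal.comm_of_EA hB (hle (Subgroup.mem_sup_left hy)) hb
    obtain ⟨r, hr', s, hs, rfl⟩ : ∃ r ∈ R₀, ∃ s ∈ R₁, r * s = b :=
      Coprime.exists_mul_of_mem_sup ((Subgroup.le_centralizer_iff.mp h01).trans (Subgroup.centralizer_le_normalizer _)) hbC
    refine mul_mem (Subgroup.mem_sup_left hr') (Subgroup.mem_sup_right ?_)
    by_cases hs1 : s = 1
    · rw [hs1]; exact one_mem _
    have hbp := hB.2 _ hb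
    rw [(show Commute r s from hcomm r hr' s hs).mul_pow, hR₀p r hr', one_mul] at hbp
    rw [← eq_of_card_eq_of_isCyclic hR₁ (Subgroup.zpowers_le.mpr hs) (Subgroup.zpowers_le.mpr z.2)
      (by rw [Nat.card_zpowers, Nat.card_zpowers, orderOf_eq_prime hbp hs1, Subgroup.orderOf_coe, hz])]
    exact Subgroup.mem_zpowers s

/-- Narrow `p`-groups have small automorphism groups. -/
theorem oddAutSmall_of_narrow (hp2 : p ≠ 2) (hR : IsPGroup p R) (hN : IsNarrow p R) : OddAutSmall p R := by
  by_cases hr : PRankLE p 2 R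
  · exact oddAutSmall_of_rankLE_two hp2 hR hr
  obtain ⟨E, hE⟩ := exists_maxEASq_of_narrow hR hN hr
  obtain ⟨h1, h2⟩ := aut_of_maxEASq hp2 hR hr hE
  refine ⟨fun X _ _ => h2 X, fun a ha ha2 hap => Or.inl ?_⟩
  have := Nat.odd_iff.mp (hp.out.odd_of_ne_two hp2)
  exact (Nat.coprime_two_left.mpr (ha.odd_of_ne_two ha2)).mul_dvd_of_dvd_of_dvd (by omega)
    (h1 a ((Nat.coprime_primes ha hp.out).mpr hap))

end Cfsg.Agent.OddLocal.RankTwo
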