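import Cfsg.Agent.OddLocal.RankTwo.Huppert
import Cfsg.Agent.OddLocal.RankTwo.NarrowAut

/-! `p`-groups of rank at most two with an operator group of odd order: `R = R₁ R₂`. -/

set_option autoImplicit false
set_option linter.style.haveILetI false

namespace Cfsg.Agent.OddLocal.RankTwo

open Cfsg
open scoped commutatorElement

/-- In rank at most two, `p > 3`, the elements of order dividing `p` are closed under products. -/
theorem omega_mul_of_rankLE_two.{u} : ∀ (n : ℕ) {R : Type u} [Group R] [Finite R] {p : ℕ} [Fact p.Prime],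
    3 < p → IsPGroup p R → PRankLE p 2 R → Nat.card R ≤ n →
    ∀ x y : R, x ^ p = 1 → y ^ p = 1 → (x * y) ^ p = 1 := by
  intro n
  induction n with
  | zero => intro R _ _ p _ _ _ _ h; exact absurd h (by simp [Nat.card_pos.ne'])
  | succ n ih =>
    intro R _ _ p hpf hp3 hR hr hn x y hx hy
    have hp := hpf.out
    have hsub : ∀ K : Subgroup R, K ≠ ⊤ → ∀ u ∈ K, ∀ w ∈ K, u ^ p = 1 → w ^ p = 1 → (u * w) ^ p = 1 := by
      intro K hK u hu w hw hup hwp
      have hlt : Nat.card K < Nat.card R := by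
        rw [← Subgroup.card_top (G := R)]; exact FGS3.Regular.card_lt_card hK.lt_top
      have := ih hp3 (hR.to_subgroup K) (Components.pRankLE_of_injective K.subtype_injective hr) (by omega)
        ⟨u, hu⟩ ⟨w, hw⟩ (Subtype.ext (by simpa using hup)) (Subtype.ext (by simpa using hwp))
      simpa using congrArg Subtype.val this
    by_cases hK : Subgroup.closure ({x, y} : Set R) = ⊤
    swap
    · exact hsub _ hK x (Subgroup.subset_closure (by simp)) y (Subgroup.subset_closure (by simp)) hx hy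
    by_cases hy' : Subgroup.zpowers y = ⊤
    · have hcx : Commute x y := by
        obtain ⟨i, hi⟩ := hy'.ge (Subgroup.mem_top x)
        rw [← hi]
        exact Commute.zpow_self y i
      rw [hcx.mul_pow, hx, hy, one_mul]
    obtain ⟨M, hM, hyM⟩ := (eq_top_or_exists_le_coatom (Subgroup.zpowers y)).resolve_left hy'
    haveI := FGS3.normal_of_coatom hR hM
    let E : Subgroup R :=
      { carrier := {z | z ∈ M ∧ z ^ p = 1}
        one_mem' := ⟨one_mem _, one_pow _⟩
        mul_mem' := fun {a b} ha hb => ⟨mul_mem ha.1 hb.1, hsub M hM.1 a ha.1 b hb.1 ha.2 hb.2⟩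
        inv_mem' := fun {a} (ha : a ∈ M ∧ a ^ p = 1) =>
          ⟨inv_mem ha.1, by rw [inv_pow, ha.2, inv_one]⟩ }
    haveI : E.Normal := ⟨fun z (hz : z ∈ M ∧ z ^ p = 1) g =>
      ⟨(inferInstance : M.Normal).conj_mem z hz.1 g, by rw [conj_pow, hz.2, mul_one, mul_inv_cancel]⟩⟩
    have hE : Nat.card E ≤ p ^ 3 := card_le_of_exponent (hR.to_subgroup E)
      (fun z => Subtype.ext (by simpa using z.2.2)) (Components.pRankLE_of_injective E.subtype_injective hr)
    have hidx : E.index ≤ p := by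
      have hcyc : Subgroup.zpowers (QuotientGroup.mk' E x) = ⊤ := by
        have h2 := congrArg (Subgroup.map (QuotientGroup.mk' E)) (eq_top_iff.mpr (hK.ge.trans
          ((Subgroup.closure_le _).mpr (by
            rintro _ (rfl | rfl)
            · exact Subgroup.mem_sup_right (Subgroup.mem_zpowers _)
            · exact Subgroup.mem_sup_left ⟨hyM (Subgroup.mem_zpowers _), hy⟩) :
              (_ : Subgroup R) ≤ E ⊔ Subgroup.zpowers x)))
        rwa [Subgroup.map_sup, QuotientGroup.map_mk'_self, bot_sup_eq, MonoidHom.map_zpowers,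
          Subgroup.map_top_of_surjective _ (QuotientGroup.mk'_surjective E)] at h2
      rw [Subgroup.index_eq_card, ← Subgroup.card_top, ← hcyc, Nat.card_zpowers]
      exact Nat.le_of_dvd hp.pos (orderOf_dvd_of_pow_eq_one (by rw [← map_pow, hx, map_one]))
    have h4 : Nat.card R ≤ p ^ (2 + 2) := by
      rw [← Subgroup.card_mul_index E]
      calc Nat.card E * E.index ≤ p ^ 3 * p := Nat.mul_le_mul hE hidx
        _ = p ^ (2 + 2) := by ring
    exact omega_mem_of_regAt hR (regAt_one_of_card_derived hR (card_commutator_le hR h4) (by omega)) hx hy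

variable {R : Type*} [Group R]

/-- Powers in the arguments of a central commutator. -/
theorem commutator_pow_pow {a b : R} (ha : Commute ⁅a, b⁆ a) (hb : Commute ⁅a, b⁆ b) (m i : ℕ) :
    ⁅a ^ m, b ^ i⁆ = ⁅a, b⁆ ^ (m * i) := by
  have h1 : ∀ k : ℕ, a ^ k * b * (a ^ k)⁻¹ = ⁅a, b⁆ ^ k * b := by
    intro k
    induction k with
    | zero => simp
    | succ k ih =>
      calc a ^ (k + 1) * b * (a ^ (k + 1))⁻¹ = a * (a ^ k * b * (a ^ k)⁻¹) * a⁻¹ := by rw [pow_succ']; group
        _ = (a * ⁅a, b⁆ ^ k) * b * a⁻¹ := by rw [ih]; group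
        _ = ⁅a, b⁆ ^ k * (a * b * a⁻¹) := by rw [← (ha.pow_left k).eq]; group
        _ = ⁅a, b⁆ ^ (k + 1) * b := by rw [pow_succ, commutatorElement_def]; group
  have h2 : a ^ m * b ^ i * (a ^ m)⁻¹ = ⁅a, b⁆ ^ (m * i) * b ^ i := by
    rw [← conj_pow, h1, (hb.pow_left m).mul_pow, ← pow_mul]
  rw [commutatorElement_def, h2, mul_inv_cancel_right]

variable [Finite R] {p : ℕ} [hp : Fact p.Prime]

theorem three_lt_of_operator (hp2 : p ≠ 2) (hR : IsPGroup p R) (hr : PRankLE p 2 R)
    (X : Subgroup (MulAut R)) (hX : (Nat.card X).Coprime p) (hXodd : Odd (Nat.card X)) (hne : X ≠ ⊥) :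
    3 < p := by
  have h1 : Nat.card X ≠ 1 := fun h => hne (Subgroup.card_eq_one.mp h)
  obtain ⟨q, hq, hqX⟩ := Nat.exists_prime_and_dvd h1
  haveI := Fact.mk hq
  obtain ⟨a, ha⟩ := exists_prime_orderOf_dvd_card' (G := X) q hqX
  have hq2 : q ≠ 2 := fun h => by
    have := hXodd.of_dvd_nat hqX
    rw [h] at this
    exact absurd this (by decide)
  have hqp : q ≠ p := fun h => by
    have := hX.coprime_dvd_left hqX
    rw [h, Nat.coprime_self] at this
    exact hp.out.ne_one this
  have ha' : orderOf (a : MulAut R) = q := by rw [Subgroup.orderOf_coe, ha]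
  have hlt := (oddAutSmall_of_rankLE_two hp2 hR hr).lt hp2 (a := (a : MulAut R)) (by rw [ha']; exact hq)
    (by rw [ha']; exact hq2) (by rw [ha']; exact hqp)
  rw [ha'] at hlt
  have := hq.two_le
  omega

/-- The subgroup generated by the elements of order dividing `p`. -/
theorem mem_omega_iff (hp3 : 3 < p) (hR : IsPGroup p R) (hr : PRankLE p 2 R) {x : R} :
    x ∈ Subgroup.closure {y : R | y ^ p = 1} ↔ x ^ p = 1 := by
  refine ⟨fun hx => ?_, fun hx => Subgroup.subset_closure hx⟩
  induction hx using Subgroup.closure_induction with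
  | mem x hx => exact hx
  | one => exact one_pow _
  | mul a b _ _ ha hb => exact omega_mul_of_rankLE_two _ hp3 hR hr le_rfl a b ha hb
  | inv a _ ha => rw [inv_pow, ha, inv_one]

/-- The structure of a rank two group `R = [R, X]`, when `|Ω₁(R)| > p ^ 2`. -/
theorem rankTwo_central (hp3 : 3 < p) (hR : IsPGroup p R) (hr : PRankLE p 2 R)
    (X : Subgroup (MulAut R)) (hX : (Nat.card X).Coprime p) (hXodd : Odd (Nat.card X))
    (hgen : Subgroup.closure {z : R | ∃ a ∈ X, ∃ x : R, z = x * (a x)⁻¹} = ⊤)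
    (R1 : Subgroup R) (hR1 : R1 = Subgroup.closure {x : R | x ^ p = 1}) (hbig : p ^ 2 < Nat.card R1) :
    Nat.card R1 = p ^ 3 ∧ ¬ IsMulCommutative R1 ∧
      IsCyclic (Subgroup.centralizer (R1 : Set R)) ∧
      Subgroup.centralizer (R1 : Set R) ≤ Subgroup.center R ∧
      Nat.card ↥(R1 ⊓ Subgroup.centralizer (R1 : Set R)) = p ∧
      R1 ⊔ Subgroup.centralizer (R1 : Set R) = ⊤ := by
  classical
  haveI := hR.isNilpotent
  have hp2 : p ≠ 2 := by omega
  have hmem : ∀ x : R, x ∈ R1 ↔ x ^ p = 1 := fun x => hR1 ▸ mem_omega_iff hp3 hR hr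
  haveI hR1c : R1.Characteristic := Subgroup.characteristic_iff_le_comap.mpr fun e x hx => by
    rw [Subgroup.mem_comap, hmem]
    rw [hmem] at hx
    rw [MulEquiv.coe_toMonoidHom, ← map_pow, hx, map_one]
  have hcard3 : Nat.card R1 = p ^ 3 := by
    obtain ⟨k, hk⟩ := (hR.to_subgroup R1).exists_card_eq
    have h := card_le_of_exponent (hR.to_subgroup R1) (fun z => Subtype.ext (by simpa using (hmem _).mp z.2))
      (Components.pRankLE_of_injective R1.subtype_injective hr)
    rw [hk] at h hbig ⊢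
    have h1 := (Nat.pow_le_pow_iff_right hp.out.one_lt).mp h
    have h2 := (Nat.pow_lt_pow_iff_right hp.out.one_lt).mp hbig
    rw [show k = 3 by omega]
  have hnab : ¬ IsMulCommutative R1 := fun hc =>
    absurd (hr R1 hc fun x hx => (hmem x).mp hx) (by omega)
  set C := Subgroup.centralizer (R1 : Set R) with hC
  haveI : C.Characteristic := inferInstanceAs (Subgroup.centralizer (R1 : Set R)).Characteristic
  set Z := R1 ⊓ C with hZ
  haveI : Z.Characteristic := Subgroup.characteristic_iff_le_comap.mpr fun e x hx =>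
    ⟨Subgroup.characteristic_iff_le_comap.mp hR1c e hx.1,
      Subgroup.characteristic_iff_le_comap.mp (inferInstance : C.Characteristic) e hx.2⟩
  have hcomm : ∀ g ∈ R1, ∀ z ∈ C, g * z = z * g := fun g hg z hz => Subgroup.mem_centralizer_iff.mp hz g hg
  have hR1ne : R1 ≠ ⊥ := fun h => by
    rw [h, Subgroup.card_bot] at hcard3
    exact absurd hcard3.symm (Nat.one_lt_pow (by norm_num) hp.out.one_lt).ne'
  have hZcard : Nat.card Z = p := by
    obtain ⟨z, hz, hz1, hzc⟩ := exists_ne_one_mem_center_of_normal R1 hR1ne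
    have hzZ : z ∈ Z := ⟨hz, Subgroup.center_le_centralizer _ hzc⟩
    have hne : Z ≠ R1 := fun h => hnab ⟨⟨fun a b => Subtype.ext (hcomm a a.2 b (h.ge b.2).2)⟩⟩
    obtain ⟨g, hg, hgZ⟩ := SetLike.exists_of_lt (lt_of_le_of_ne inf_le_left hne)
    have hK : Nat.card ↥(Z ⊔ Subgroup.zpowers g) ≤ p ^ 2 := by
      have hle : Z ⊔ Subgroup.zpowers g ≤ R1 := sup_le inf_le_left (Subgroup.zpowers_le.mpr hg)
      refine hr _ ?_ fun a ha => (hmem a).mp (hle ha)
      have hcl : Z ⊔ Subgroup.zpowers g ≤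
          Subgroup.centralizer ((Z ⊔ Subgroup.zpowers g : Subgroup R) : Set R) := by
        refine sup_le (fun w hw => Subgroup.mem_centralizer_iff.mpr fun a ha => hcomm a (hle ha) w hw.2) ?_
        refine Subgroup.zpowers_le.mpr (Subgroup.mem_centralizer_iff.mpr fun a ha => ?_)
        exact (Subgroup.mem_centralizer_singleton_iff.mp
          ((sup_le (fun w hw => Subgroup.mem_centralizer_singleton_iff.mpr (hcomm g hg w hw.2).symm)
            (Subgroup.zpowers_le.mpr (Subgroup.mem_centralizer_singleton_iff.mpr rfl)) :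
              Z ⊔ Subgroup.zpowers g ≤ Subgroup.centralizer ({g} : Set R)) ha))
      exact ⟨⟨fun a b => Subtype.ext (Subgroup.mem_centralizer_iff.mp (hcl b.2) a a.2)⟩⟩
    have hlt : Z < Z ⊔ Subgroup.zpowers g :=
      lt_of_le_of_ne le_sup_left fun e => hgZ (e.ge (Subgroup.mem_sup_right (Subgroup.mem_zpowers g)))
    have hle : Nat.card Z ≤ p := by simpa using card_le_of_lt hR hlt (m := 1) hK
    obtain ⟨k, hk⟩ := (hR.to_subgroup Z).exists_card_eq
    have hk0 : k ≠ 0 := fun h0 => hz1 (by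
      rw [h0, pow_zero, Subgroup.card_eq_one] at hk
      exact Subgroup.mem_bot.mp (hk ▸ hzZ))
    refine le_antisymm hle ?_
    rw [hk]; exact Nat.le_self_pow hk0 p
  haveI hCcyc : IsCyclic C := by
    refine isCyclic_of_uniqueOrderP _ (hR.to_subgroup C) (fun a b ha hb ha1 => ?_) (Or.inl hp2) le_rfl
    have hz : ∀ w : C, w ^ p = 1 → (w : R) ∈ Z := fun w hw =>
      ⟨(hmem _).mpr (by simpa using congrArg Subtype.val hw), w.2⟩
    have e : Subgroup.zpowers (a : R) = Z := Subgroup.eq_of_le_of_card_ge (Subgroup.zpowers_le.mpr (hz a ha))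
      (by rw [hZcard, Nat.card_zpowers, Subgroup.orderOf_coe, orderOf_eq_prime ha ha1])
    obtain ⟨i, hi⟩ := e.ge (hz b hb)
    exact ⟨i, Subtype.ext (by simpa using hi)⟩
  have hCcen : C ≤ Subgroup.center R := by
    have hcommAut : ∀ α β : MulAut C, α * β = β * α := fun α β => by
      apply (IsCyclic.mulAutMulEquiv C).injective
      simp only [map_mul, mul_comm]
    set φ : R →* MulAut C := MulAut.conjNormal with hφ
    have hφ1 : φ = 1 := by
      refine MonoidHom.eq_of_eqOn_dense hgen ?_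
      rintro _ ⟨a, -, x, rfl⟩
      set α := autRestrict C a with hα
      have e : φ (a x) = α * φ x * α⁻¹ := by
        refine MulEquiv.ext fun c => Subtype.ext ?_
        have hinv : α⁻¹ = autRestrict C a⁻¹ := by rw [hα, map_inv]
        rw [MulAut.mul_apply, MulAut.mul_apply, autRestrict_apply, hφ, MulAut.conjNormal_apply,
          MulAut.conjNormal_apply, hinv, autRestrict_apply, map_mul, map_mul, map_inv,
          show a (a⁻¹ (c : R)) = c from a.apply_symm_apply _]
      rw [map_mul, map_inv, e, hcommAut α (φ x), mul_inv_cancel_right, mul_inv_cancel, MonoidHom.one_apply]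
    intro c hc
    rw [Subgroup.mem_center_iff]
    intro g
    have := congrArg (fun ψ : MulAut C => ((ψ ⟨c, hc⟩ : C) : R)) (DFunLike.congr_fun hφ1 g)
    simp only [hφ, MulAut.conjNormal_apply, MonoidHom.one_apply, MulAut.one_apply] at this
    exact mul_inv_eq_iff_eq_mul.mp this
  refine ⟨hcard3, hnab, hCcyc, hCcen, hZcard, ?_⟩
  have hZcen : Z ≤ Subgroup.center R := inf_le_right.trans hCcen
  -- a chain `Z < L < R₁`
  set π := QuotientGroup.mk' Z
  have hπs := QuotientGroup.mk'_surjective Z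
  have hπ1 : ∀ {r : R}, π r = 1 ↔ r ∈ Z := fun {r} => QuotientGroup.eq_one_iff r
  haveI := (hR.to_quotient Z).isNilpotent
  have hZne : Z ≠ R1 := fun h => by
    rw [h, hcard3] at hZcard
    exact absurd ((Nat.pow_right_injective hp.out.two_le) (hZcard.trans (pow_one p).symm)) (by norm_num)
  obtain ⟨u, hu, huZ, hucen⟩ : ∃ u ∈ R1, u ∉ Z ∧ π u ∈ Subgroup.center (R ⧸ Z) := by
    haveI : (R1.map π).Normal := (inferInstance : R1.Normal).map π hπs
    obtain ⟨_, ⟨u, hu, rfl⟩, hu1, huc⟩ := exists_ne_one_mem_center_of_normal (R1.map π) (fun h => hZne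
      (le_antisymm inf_le_left fun r hr => hπ1.mp (Subgroup.mem_bot.mp (h ▸ Subgroup.mem_map_of_mem π hr))))
    exact ⟨u, hu, fun h => hu1 (hπ1.mpr h), huc⟩
  have huZc : ∀ r : R, ⁅r, u⁆ ∈ Z := fun r => hπ1.mp (by
    rw [map_commutatorElement, commutatorElement_eq_one_iff_mul_comm]
    exact Subgroup.mem_center_iff.mp hucen (π r))
  set L := Z ⊔ Subgroup.zpowers u with hL
  have hLR : L ≤ R1 := sup_le inf_le_left (Subgroup.zpowers_le.mpr hu)
  haveI hLn : L.Normal := ⟨fun y hy g => by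
    rw [show g * y * g⁻¹ = ⁅g, y⁆ * y by rw [commutatorElement_def]; group]
    refine mul_mem (Subgroup.mem_sup_left ?_) hy
    obtain ⟨z, hz, w, hw, rfl⟩ := Subgroup.mem_sup_of_normal_left.mp hy
    obtain ⟨i, rfl⟩ := hw
    refine hπ1.mp ?_
    rw [map_commutatorElement, map_mul, map_zpow, hπ1.mpr hz, one_mul, commutatorElement_eq_one_iff_mul_comm]
    exact Subgroup.mem_center_iff.mp (zpow_mem hucen i) (π g)⟩
  have hLcomm : ∀ a ∈ L, ∀ b ∈ L, a * b = b * a := by
    have hall : ∀ a ∈ L, Commute a u := fun a ha => by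
      refine Subgroup.mem_centralizer_singleton_iff.mp ((sup_le ?_ ?_ : L ≤ Subgroup.centralizer ({u} : Set R)) ha)
      · exact fun w hw => Subgroup.mem_centralizer_singleton_iff.mpr (hcomm u hu w hw.2).symm
      · exact Subgroup.zpowers_le.mpr (Subgroup.mem_centralizer_singleton_iff.mpr rfl)
    intro a ha b hb
    refine (Subgroup.mem_centralizer_singleton_iff.mp ((sup_le ?_ ?_ : L ≤ Subgroup.centralizer ({a} : Set R)) hb)).symm
    · exact fun w hw => Subgroup.mem_centralizer_singleton_iff.mpr (hcomm a (hLR ha) w hw.2).symm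
    · exact Subgroup.zpowers_le.mpr (Subgroup.mem_centralizer_singleton_iff.mpr (hall a ha).eq.symm)
  have hLcard : Nat.card L = p ^ 2 := by
    have h1 : Nat.card L ≤ p ^ 2 := hr L ⟨⟨fun a b => Subtype.ext (hLcomm a a.2 b b.2)⟩⟩
      fun a ha => (hmem a).mp (hLR ha)
    have hlt : Z < L := lt_of_le_of_ne le_sup_left
      fun e => huZ (e.ge (Subgroup.mem_sup_right (Subgroup.mem_zpowers u)))
    obtain ⟨k, hk⟩ := (hR.to_subgroup L).exists_card_eq
    have h2 := FGS3.Regular.card_lt_card hlt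
    rw [hZcard, hk] at h2
    rw [hk] at h1 ⊢
    have h3 := (Nat.pow_le_pow_iff_right hp.out.one_lt).mp h1
    have h4 : 1 < k := (Nat.pow_lt_pow_iff_right hp.out.one_lt).mp ((pow_one p).le.trans_lt h2)
    rw [show k = 2 by omega]
  obtain ⟨v, hv, hvL⟩ := SetLike.exists_of_lt (lt_of_le_of_ne hLR fun h => by
    rw [h, hcard3] at hLcard
    exact absurd ((Nat.pow_right_injective hp.out.two_le) hLcard) (by norm_num))
  have hLv : ∀ K : Subgroup R, L ≤ K → ∀ r ∈ R1, r ∉ L → r ∈ K → R1 ≤ K := by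
    intro K hLK r hr1 hrL hrK
    have hlt : L < L ⊔ Subgroup.zpowers r :=
      lt_of_le_of_ne le_sup_left fun e => hrL (e.ge (Subgroup.mem_sup_right (Subgroup.mem_zpowers r)))
    have hle : L ⊔ Subgroup.zpowers r ≤ R1 := sup_le hLR (Subgroup.zpowers_le.mpr hr1)
    obtain ⟨k, hk⟩ := (hR.to_subgroup (L ⊔ Subgroup.zpowers r)).exists_card_eq
    have h2 := FGS3.Regular.card_lt_card hlt
    rw [hLcard, hk] at h2
    have h3 := (Nat.pow_lt_pow_iff_right hp.out.one_lt).mp h2
    rw [← Subgroup.eq_of_le_of_card_ge hle (by rw [hk, hcard3]; exact Nat.pow_le_pow_right hp.out.pos h3)]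
    exact sup_le hLK (Subgroup.zpowers_le.mpr hrK)
  have hvLc : ∀ r : R, ⁅r, v⁆ ∈ L := by
    intro r
    haveI := (hR.to_quotient L).isNilpotent
    set σ := QuotientGroup.mk' L
    haveI : (R1.map σ).Normal := (inferInstance : R1.Normal).map σ (QuotientGroup.mk'_surjective L)
    have hsv : σ v ≠ 1 := fun h => hvL ((QuotientGroup.eq_one_iff v).mp h)
    have hsv' : σ v ∈ R1.map σ := ⟨v, hv, rfl⟩
    obtain ⟨_, ⟨w, hw, rfl⟩, hw1, hwc⟩ := exists_ne_one_mem_center_of_normal (R1.map σ)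
      (fun h => hsv (Subgroup.mem_bot.mp (h ▸ hsv')))
    have hK := hLv ((Subgroup.center (R ⧸ L)).comap σ) (fun y hy => by
      rw [Subgroup.mem_comap, show σ y = 1 from (QuotientGroup.eq_one_iff y).mpr hy]; exact one_mem _) w hw
      (fun h => hw1 ((QuotientGroup.eq_one_iff w).mpr h)) hwc hv
    refine (QuotientGroup.eq_one_iff _).mp ?_
    show σ ⁅r, v⁆ = 1
    rw [map_commutatorElement, commutatorElement_eq_one_iff_mul_comm]
    exact Subgroup.mem_center_iff.mp hK (σ r)
  have hLgen : R1 ≤ L ⊔ Subgroup.zpowers v :=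
    hLv _ le_sup_left v hv hvL (Subgroup.mem_sup_right (Subgroup.mem_zpowers v))
  have hcentral : ∀ r : R, r * u = u * r → r * v = v * r → r ∈ C := by
    intro r h1 h2
    refine Subgroup.mem_centralizer_iff.mpr fun g hg => ?_
    refine Subgroup.mem_centralizer_singleton_iff.mp
      ((sup_le (sup_le ?_ ?_) ?_ : L ⊔ Subgroup.zpowers v ≤ Subgroup.centralizer ({r} : Set R)) (hLgen hg))
    · exact fun w hw => Subgroup.mem_centralizer_singleton_iff.mpr (Subgroup.mem_center_iff.mp (hZcen hw) r).symm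
    · exact Subgroup.zpowers_le.mpr (Subgroup.mem_centralizer_singleton_iff.mpr h1.symm)
    · exact Subgroup.zpowers_le.mpr (Subgroup.mem_centralizer_singleton_iff.mpr h2.symm)
  have hcomm_iff : ∀ (r s g : R), ⁅r, g⁆ = ⁅s, g⁆ → (r⁻¹ * s) * g = g * (r⁻¹ * s) := by
    intro r s g h
    have h' : r * g * r⁻¹ = s * g * s⁻¹ := by
      simpa [commutatorElement_def] using h
    calc (r⁻¹ * s) * g = r⁻¹ * (s * g * s⁻¹) * s := by group
      _ = r⁻¹ * (r * g * r⁻¹) * s := by rw [h']
      _ = g * (r⁻¹ * s) := by group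
  -- the subgroup `T = R₁ C`
  set T := R1 ⊔ C with hT
  have hTidx : T.index ≤ p := by
    let ψ : R ⧸ C → Z × L := Quotient.lift (fun r => (⟨⁅r, u⁆, huZc r⟩, ⟨⁅r, v⁆, hvLc r⟩)) (fun r s h => by
      have hc := QuotientGroup.leftRel_apply.mp h
      have hcz : ∀ g, ⁅r, g⁆ = ⁅s, g⁆ := fun g => by
        have hz := Subgroup.mem_center_iff.mp (hCcen hc) g
        rw [commutatorElement_def, commutatorElement_def]
        congr 1
        calc r * g * r⁻¹ = r * (g * (r⁻¹ * s)) * s⁻¹ := by group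
          _ = s * g * s⁻¹ := by rw [hz]; group
      exact Prod.ext (Subtype.ext (hcz u)) (Subtype.ext (hcz v)))
    have hψ : Function.Injective ψ := by
      intro a b
      induction a using QuotientGroup.induction_on with
      | H r =>
        induction b using QuotientGroup.induction_on with
        | H s =>
          intro h
          exact QuotientGroup.eq.mpr (hcentral _ (hcomm_iff r s u (congrArg (fun q => ((q.1 : Z) : R)) h))
            (hcomm_iff r s v (congrArg (fun q => ((q.2 : L) : R)) h)))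
    have h1 : C.index ≤ p ^ 3 := by
      rw [Subgroup.index]
      refine (Nat.card_le_card_of_injective ψ hψ).trans_eq ?_
      rw [Nat.card_prod, hZcard, hLcard]; ring
    have h2 : C.relIndex T = p ^ 2 := by
      rw [hT, Subgroup.relIndex_sup_right]
      have h3 := Subgroup.card_mul_index (C.subgroupOf R1)
      rw [← Subgroup.relIndex] at h3
      rw [show Nat.card (C.subgroupOf R1) = p by
        rw [← Subgroup.inf_subgroupOf_left, Nat.card_congr (Subgroup.subgroupOfEquivOfLe inf_le_left).toEquiv]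
        exact hZcard, hcard3, pow_succ' p 2] at h3
      exact Nat.eq_of_mul_eq_mul_left hp.out.pos h3
    have h4 := Subgroup.relIndex_mul_index (show C ≤ T from le_sup_right)
    rw [h2] at h4
    refine Nat.le_of_mul_le_mul_left (?_ : p ^ 2 * _ ≤ p ^ 2 * _) (pow_pos hp.out.pos 2)
    rw [h4]
    exact h1.trans_eq (by ring)
  by_contra hTtop
  haveI : T.Normal := inferInstanceAs (R1 ⊔ C).Normal
  obtain ⟨x0, hx0⟩ : ∃ x0, x0 ∉ T := by
    by_contra h; push Not at h; exact hTtop (eq_top_iff.mpr fun y _ => h y)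
  have hgen0 : T ⊔ Subgroup.zpowers x0 = ⊤ := by
    refine Subgroup.index_eq_one.mp ?_
    have hlt : T < T ⊔ Subgroup.zpowers x0 :=
      lt_of_le_of_ne le_sup_left fun e => hx0 (e.ge (Subgroup.mem_sup_right (Subgroup.mem_zpowers x0)))
    obtain ⟨i, hi⟩ := hR.index (T ⊔ Subgroup.zpowers x0)
    have := Subgroup.index_strictAnti hlt
    rw [hi] at this ⊢
    have h2 := (Nat.pow_lt_pow_iff_right hp.out.one_lt).mp ((this.trans_le hTidx).trans_eq (pow_one p).symm)
    rw [show i = 0 by omega, pow_zero]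
  have hder : commutator R ≤ R1 := by
    rw [commutator_def, Subgroup.commutator_le]
    intro r _ s _
    refine (QuotientGroup.eq_one_iff _).mp ?_
    show QuotientGroup.mk' R1 ⁅r, s⁆ = 1
    rw [map_commutatorElement, commutatorElement_eq_one_iff_mul_comm]
    set σ := QuotientGroup.mk' R1
    have hTc : T.map σ ≤ Subgroup.center (R ⧸ R1) := by
      rw [hT, Subgroup.map_sup, QuotientGroup.map_mk'_self, bot_sup_eq]
      rintro _ ⟨c, hc, rfl⟩
      rw [Subgroup.mem_center_iff]
      intro g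
      obtain ⟨g, rfl⟩ := QuotientGroup.mk'_surjective R1 g
      rw [← map_mul, ← map_mul, Subgroup.mem_center_iff.mp (hCcen hc) g]
    have hdec : ∀ w : R, ∃ t ∈ Subgroup.center (R ⧸ R1), ∃ i : ℤ, σ w = t * σ x0 ^ i := fun w => by
      obtain ⟨t, ht, _, ⟨i, rfl⟩, rfl⟩ := Subgroup.mem_sup_of_normal_left.mp (hgen0.ge (Subgroup.mem_top w))
      exact ⟨σ t, hTc ⟨t, ht, rfl⟩, i, by rw [map_mul, map_zpow]⟩
    obtain ⟨t1, ht1, i, hi⟩ := hdec r
    obtain ⟨t2, ht2, j, hj⟩ := hdec s
    have c1 : ∀ g, Commute t1 g := fun g => (Subgroup.mem_center_iff.mp ht1 g).symm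
    have c2 : ∀ g, Commute t2 g := fun g => (Subgroup.mem_center_iff.mp ht2 g).symm
    rw [hi, hj]
    exact ((c1 _).mul_left ((c2 _).symm.mul_right (Commute.zpow_zpow_self _ i j))).eq
  have hreg := regAt_one_of_card_derived hR (k := 3)
    ((Subgroup.card_le_of_le hder).trans hcard3.le) (by
      rcases hp.out.eq_two_or_odd with h | h <;> omega)
  have hderp : ∀ c ∈ commutator R, c ^ p = 1 := fun c hc => (hmem c).mp (hder hc)
  have hpow : ∀ a b : R, (a * b) ^ p = a ^ p * b ^ p := fun a b => by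
    obtain ⟨c, hc, he⟩ := hreg a b
    rw [FGS3.Regular.powerClosure_eq_bot (fun y hy => by
      rw [pow_one]; exact hderp y (Subgroup.commutator_mono le_top le_top hy)), Subgroup.mem_bot] at hc
    rwa [hc, mul_one, pow_one] at he
  have hpC : ∀ r : R, r ^ p ∈ C := fun r => Subgroup.center_le_centralizer _ (Subgroup.mem_center_iff.mpr fun s => by
    have h1 := (FGS3.Regular.commute_pow_iff hR hreg r s).mpr (by
      rw [pow_one]
      have := Subgroup.commutator_mem_commutator (Subgroup.mem_top r⁻¹) (Subgroup.mem_top s⁻¹)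
      rw [← commutator_def] at this
      simpa [commutatorElement_def] using hderp _ this)
    rw [pow_one] at h1
    exact h1.symm)
  let f : R →* C := MonoidHom.mk' (fun r => ⟨r ^ p, hpC r⟩) fun a b => Subtype.ext (hpow a b)
  obtain ⟨⟨_, x, rfl⟩, hxgen⟩ := IsCyclic.exists_generator (α := f.range)
  have hxr : ∀ r : R, ∃ m : ℕ, ∃ ρ ∈ R1, r = x ^ m * ρ := fun r => by
    obtain ⟨m, hm⟩ := mem_powers_iff_mem_zpowers.mpr (hxgen ⟨f r, r, rfl⟩)
    have hm' : (x ^ p) ^ m = r ^ p := by
      simpa [f] using congrArg (fun q : f.range => ((q : C) : R)) hm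
    refine ⟨m, (x ^ m)⁻¹ * r, (hmem _).mpr ?_, (mul_inv_cancel_left _ _).symm⟩
    rw [hpow, inv_pow, ← pow_mul, mul_comm, pow_mul, hm', inv_mul_cancel]
  have hxT : x ∉ T := fun h => hTtop (eq_top_iff.mpr fun r _ => by
    obtain ⟨m, ρ, hρ, rfl⟩ := hxr r
    exact mul_mem (pow_mem h m) (Subgroup.mem_sup_left hρ))
  have hxp : x ^ p ≠ 1 := fun h => hxT (Subgroup.mem_sup_left ((hmem x).mpr h))
  -- `Z` consists of powers of `x ^ p`
  have hZx : ∀ z ∈ Z, ∃ k : ℕ, z = (x ^ p) ^ k := by
    obtain ⟨e, he⟩ := (IsPGroup.iff_orderOf.mp hR) (x ^ p)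
    have he0 : e ≠ 0 := fun h => hxp (orderOf_eq_one_iff.mp (by rw [he, h, pow_zero]))
    set z0 := (x ^ p) ^ p ^ (e - 1) with hz0
    have hz0o : orderOf z0 = p := by
      rw [hz0, orderOf_pow_of_dvd (pow_ne_zero _ hp.out.ne_zero) (he ▸ pow_dvd_pow p (Nat.sub_le e 1)), he,
        Nat.pow_div (Nat.sub_le e 1) hp.out.pos, show e - (e - 1) = 1 by omega, pow_one]
    have hz0Z : z0 ∈ Z := ⟨(hmem _).mpr (by rw [← hz0o, pow_orderOf_eq_one]), pow_mem (hpC x) _⟩
    have heq : Subgroup.zpowers z0 = Z :=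
      Subgroup.eq_of_le_of_card_ge (Subgroup.zpowers_le.mpr hz0Z) (by rw [hZcard, Nat.card_zpowers, hz0o])
    intro z hz
    obtain ⟨i, hi⟩ := mem_powers_iff_mem_zpowers.mpr (heq.ge hz)
    exact ⟨p ^ (e - 1) * i, by rw [← hi, pow_mul]⟩
  -- the commutators
  have hvu : ⁅u, v⁆ ∈ Z := by rw [← commutatorElement_inv]; exact inv_mem (huZc v)
  set z1 := ⁅u, v⁆ with hz1def
  have hz1 : z1 ≠ 1 := fun h => huZ ⟨hu, hcentral u rfl (commutatorElement_eq_one_iff_mul_comm.mp h)⟩
  have hwZ : ⁅x, v⁆ ∉ Z := by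
    intro hw
    -- commutation with `u, v` defines a map on `R₁ / Z`
    let χ : R1 ⧸ Z.subgroupOf R1 → Z × Z := Quotient.lift
      (fun r => (⟨⁅(r : R), u⁆, huZc r⟩, ⟨⁅(r : R), v⁆, by
        have hr' := hLgen r.2
        obtain ⟨l, hl, _, ⟨i, rfl⟩, hlr⟩ := Subgroup.mem_sup_of_normal_left.mp hr'
        refine hπ1.mp ?_
        rw [map_commutatorElement, ← hlr, map_mul, map_zpow, commutatorElement_eq_one_iff_mul_comm]
        obtain ⟨zz, hzz, _, ⟨j, rfl⟩, rfl⟩ := Subgroup.mem_sup_of_normal_left.mp hl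
        rw [map_mul, hπ1.mpr hzz, one_mul, map_zpow]
        exact ((Commute.zpow_left (Subgroup.mem_center_iff.mp hucen (π v)).symm j).mul_left
          (Commute.zpow_self (π v) i)).eq⟩)) (fun r s h => by
      have hc := Subgroup.mem_subgroupOf.mp (QuotientGroup.leftRel_apply.mp h)
      have hcz : ∀ g, ⁅(r : R), g⁆ = ⁅(s : R), g⁆ := fun g => by
        have hz := Subgroup.mem_center_iff.mp (hZcen hc) g
        rw [Subgroup.coe_mul, Subgroup.coe_inv] at hz
        rw [commutatorElement_def, commutatorElement_def]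
        congr 1
        calc (r : R) * g * (r : R)⁻¹ = (r : R) * (g * ((r : R)⁻¹ * s)) * (s : R)⁻¹ := by group
          _ = (s : R) * g * (s : R)⁻¹ := by rw [hz]; group
      exact Prod.ext (Subtype.ext (hcz u)) (Subtype.ext (hcz v)))
    have hχ : Function.Bijective χ := by
      refine (Nat.bijective_iff_injective_and_card χ).mpr ⟨?_, ?_⟩
      · intro a b
        induction a using QuotientGroup.induction_on with
        | H r =>
          induction b using QuotientGroup.induction_on with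
          | H s =>
            intro h
            refine QuotientGroup.eq.mpr (Subgroup.mem_subgroupOf.mpr ⟨((r⁻¹ * s : R1)).2, ?_⟩)
            exact hcentral _ (hcomm_iff (r : R) s u (congrArg (fun q => ((q.1 : Z) : R)) h))
              (hcomm_iff (r : R) s v (congrArg (fun q => ((q.2 : Z) : R)) h))
      · have h3 := Subgroup.card_mul_index (Z.subgroupOf R1)
        rw [Nat.card_congr (Subgroup.subgroupOfEquivOfLe (inf_le_left : Z ≤ R1)).toEquiv, hZcard, hcard3,
          pow_succ' p 2, Subgroup.index_eq_card] at h3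
        rw [Nat.card_prod, hZcard, Nat.eq_of_mul_eq_mul_left hp.out.pos h3, sq]
    obtain ⟨q, hq⟩ := hχ.2 (⟨⁅x, u⁆, huZc x⟩, ⟨⁅x, v⁆, hw⟩)
    induction q using QuotientGroup.induction_on with
    | H r =>
      have hc := hcentral _ (hcomm_iff (r : R) x u (congrArg (fun q => ((q.1 : Z) : R)) hq))
        (hcomm_iff (r : R) x v (congrArg (fun q => ((q.2 : Z) : R)) hq))
      exact hxT (by simpa using mul_mem (Subgroup.mem_sup_left r.2) (Subgroup.mem_sup_right hc : _ ∈ T))
  -- a fixed point modulo `L`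
  set σ := QuotientGroup.mk' L
  have hπL : ∀ l ∈ L, π l ∈ Subgroup.center (R ⧸ Z) := fun l hl => by
    obtain ⟨z, hz, _, ⟨j, rfl⟩, rfl⟩ := Subgroup.mem_sup_of_normal_left.mp hl
    rw [map_mul, hπ1.mpr hz, one_mul, map_zpow]
    exact zpow_mem hucen j
  have hfix : ∀ a ∈ X, (∀ l ∈ L, a l ∈ L) ∧ v * (a v)⁻¹ ∈ L := by
    intro a ha
    have hR1a : ∀ r ∈ R1, a r ∈ R1 := fun r hr => Subgroup.characteristic_iff_le_comap.mp hR1c a hr
    have hZa : ∀ r ∈ Z, a r ∈ Z := fun r hr =>
      Subgroup.characteristic_iff_le_comap.mp (inferInstance : Z.Characteristic) a hr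
    have hLchar : ∀ r ∈ R1, π r ∈ Subgroup.center (R ⧸ Z) → r ∈ L := by
      intro r hr hrc
      by_contra hrL
      refine hwZ (hπ1.mp ?_)
      rw [map_commutatorElement, commutatorElement_eq_one_iff_mul_comm]
      exact Subgroup.mem_center_iff.mp (hLv ((Subgroup.center (R ⧸ Z)).comap π) hπL r hr hrL hrc hv) (π x)
    have hauc : π (a u) ∈ Subgroup.center (R ⧸ Z) := Subgroup.mem_center_iff.mpr fun g => by
      obtain ⟨g, rfl⟩ := hπs g
      rw [← commutatorElement_eq_one_iff_mul_comm, ← map_commutatorElement, ← a.apply_symm_apply g,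
        ← map_commutatorElement a]
      exact hπ1.mpr (hZa _ (huZc _))
    have hau : a u ∈ L := hLchar _ (hR1a u hu) hauc
    have hLa : ∀ l ∈ L, a l ∈ L := fun l hl => by
      obtain ⟨z, hz, _, ⟨j, rfl⟩, rfl⟩ := Subgroup.mem_sup_of_normal_left.mp hl
      rw [map_mul, map_zpow]
      exact mul_mem (Subgroup.mem_sup_left (hZa z hz)) (zpow_mem hau j)
    refine ⟨hLa, ?_⟩
    obtain ⟨j, hj⟩ : ∃ j : ℕ, π (a u) = π u ^ j := by
      obtain ⟨z, hz, _, ⟨j, rfl⟩, hju⟩ := Subgroup.mem_sup_of_normal_left.mp hau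
      obtain ⟨k, hk⟩ := mem_powers_iff_mem_zpowers.mpr
        (zpow_mem (Subgroup.mem_zpowers (π u)) j : π u ^ j ∈ Subgroup.zpowers (π u))
      exact ⟨k, by rw [← hju, map_mul, hπ1.mpr hz, one_mul, map_zpow]; exact hk.symm⟩
    obtain ⟨i, l, hl, hi⟩ : ∃ i : ℕ, ∃ l ∈ L, a v = v ^ i * l := by
      obtain ⟨_, ⟨i', rfl⟩, l, hl, hil⟩ := Subgroup.mem_sup_of_normal_right.mp
        ((hLgen.trans (sup_comm L _).le) (hR1a v hv))
      obtain ⟨i, hi⟩ := mem_powers_iff_mem_zpowers.mpr
        (zpow_mem (Subgroup.mem_zpowers v) i' : v ^ i' ∈ Subgroup.zpowers v)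
      refine ⟨i, l, hl, ?_⟩
      rw [← hil]
      exact congrArg (· * l) hi.symm
    obtain ⟨m, ρ, hρ, hm⟩ := hxr (a x)
    -- first congruence
    have hz1o : orderOf z1 = p := orderOf_eq_prime ((hmem _).mp hvu.1) hz1
    obtain ⟨k, hk⟩ := hZx z1 hvu
    have haz : a z1 = z1 ^ m := by
      have : (a x) ^ p = (x ^ p) ^ m := by
        rw [hm, hpow, (hmem ρ).mp hρ, mul_one, ← pow_mul, mul_comm, pow_mul]
      rw [hk, map_pow, map_pow, this, pow_right_comm]
    have hcz : ∀ g : R, Commute z1 g := fun g => (Subgroup.mem_center_iff.mp (hZcen hvu) g).symm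
    obtain ⟨ζ, hζ, hζu⟩ : ∃ ζ ∈ Z, a u = u ^ j * ζ :=
      ⟨(u ^ j)⁻¹ * a u, hπ1.mp (by rw [map_mul, map_inv, map_pow, hj, inv_mul_cancel]), (mul_inv_cancel_left _ _).symm⟩
    have hz2 : a z1 = z1 ^ (j * i) := by
      rw [hz1def, map_commutatorElement, hζu, hi,
        ← commutator_pow_pow (hcz u) (hcz v) j i]
      have c1 : ∀ g : R, Commute ζ g := fun g => (Subgroup.mem_center_iff.mp (hZcen hζ) g).symm
      have c2 : Commute (u ^ j) l := (show Commute u l from hLcomm u (Subgroup.mem_sup_right (Subgroup.mem_zpowers u)) l hl).pow_left j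
      calc ⁅u ^ j * ζ, v ^ i * l⁆
          = u ^ j * (ζ * (v ^ i * l)) * (u ^ j * ζ)⁻¹ * (v ^ i * l)⁻¹ := by rw [commutatorElement_def]; group
        _ = u ^ j * v ^ i * (l * (u ^ j)⁻¹) * l⁻¹ * (v ^ i)⁻¹ := by rw [(c1 (v ^ i * l)).eq]; group
        _ = ⁅u ^ j, v ^ i⁆ := by rw [← c2.inv_left.eq, commutatorElement_def]; group
    have hji : j * i ≡ m [MOD p] := by
      rw [← hz1o]; exact pow_eq_pow_iff_modEq.mp (hz2.symm.trans haz)
    have hm0 : ¬ p ∣ m := fun hd => hz1 (a.injective (by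
      rw [haz, map_one]; exact orderOf_dvd_iff_pow_eq_one.mp (hz1o.symm ▸ hd)))
    -- second congruence, in `R / Z`
    set W := ⁅π x, π v⁆ with hW
    have hWcen : W ∈ Subgroup.center (R ⧸ Z) := by
      rw [hW, ← map_commutatorElement]; exact hπL _ (hvLc x)
    have hW1 : W ≠ 1 := fun h => hwZ (hπ1.mp (by rw [map_commutatorElement]; exact h))
    have hWo : orderOf W = p := orderOf_eq_prime (by
      rw [hW, ← map_commutatorElement, ← map_pow, (hmem _).mp (hLR (hvLc x)), map_one]) hW1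
    have hcW : ∀ g, Commute W g := fun g => (Subgroup.mem_center_iff.mp hWcen g).symm
    obtain ⟨e, he⟩ : ∃ e : ℕ, W = π u ^ e := by
      obtain ⟨z, hz, _, ⟨e', rfl⟩, hze⟩ := Subgroup.mem_sup_of_normal_left.mp (hvLc x)
      obtain ⟨e, he⟩ := mem_powers_iff_mem_zpowers.mpr
        (zpow_mem (Subgroup.mem_zpowers (π u)) e' : π u ^ e' ∈ Subgroup.zpowers (π u))
      exact ⟨e, by rw [hW, ← map_commutatorElement, ← hze, map_mul, hπ1.mpr hz, one_mul, map_zpow]; exact he.symm⟩
    have hWj : π (a ⁅x, v⁆) = W ^ j := by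
      obtain ⟨ζ', hζ', hζ''⟩ : ∃ ζ' ∈ Z, ⁅x, v⁆ = u ^ e * ζ' :=
        ⟨(u ^ e)⁻¹ * ⁅x, v⁆, hπ1.mp (by rw [map_mul, map_inv, map_pow, map_commutatorElement, ← hW, he, inv_mul_cancel]),
          (mul_inv_cancel_left _ _).symm⟩
      rw [hζ'', map_mul, map_pow, map_mul, map_pow, hπ1.mpr (hZa _ hζ'), mul_one, hj, he, ← pow_mul, ← pow_mul,
        mul_comm]
    have hWmi : π (a ⁅x, v⁆) = W ^ (m * i) := by
      rw [map_commutatorElement, map_commutatorElement, hm, hi, map_mul, map_mul, map_pow, map_pow]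
      have c1 : Commute (π ρ) (π v ^ i) := by
        obtain ⟨l', hl', _, ⟨i', rfl⟩, rfl⟩ := Subgroup.mem_sup_of_normal_left.mp (hLgen hρ)
        rw [map_mul, map_zpow]
        have d1 : Commute (π l') (π v ^ i) := (Subgroup.mem_center_iff.mp (hπL l' hl') _).symm
        exact d1.mul_left ((Commute.zpow_self (π v) i').pow_right i)
      have c2 : ∀ g, Commute (π l) g := fun g => (Subgroup.mem_center_iff.mp (hπL l hl) g).symm
      rw [hW, ← commutator_pow_pow (hcW (π x)) (hcW (π v)) m i]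
      calc ⁅π x ^ m * π ρ, π v ^ i * π l⁆
          = π x ^ m * π ρ * π v ^ i * (π l * (π x ^ m * π ρ)⁻¹) * (π l)⁻¹ * (π v ^ i)⁻¹ := by
            rw [commutatorElement_def]; group
        _ = π x ^ m * (π ρ * π v ^ i) * (π ρ)⁻¹ * (π x ^ m)⁻¹ * (π v ^ i)⁻¹ := by
            rw [(c2 ((π x ^ m * π ρ)⁻¹)).eq]; group
        _ = ⁅π x ^ m, π v ^ i⁆ := by rw [c1.eq, commutatorElement_def]; group
    have hjm : j ≡ m * i [MOD p] := by
      rw [← hWo]; exact pow_eq_pow_iff_modEq.mp (hWj.symm.trans hWmi)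
    have hii : m * (i * i) ≡ m * 1 [MOD p] := by
      rw [mul_one, ← mul_assoc]
      exact ((hjm.mul_right i).symm).trans hji
    have hi1 : i * i ≡ 1 [MOD p] :=
      Nat.ModEq.cancel_left_of_coprime (hp.out.coprime_iff_not_dvd.mpr hm0) hii
    -- `a ^ 2` fixes `v` modulo `L`
    have hσ : ∀ {r s : R}, σ r = σ s → σ (a r) = σ (a s) := fun {r s} h => by
      have h' : r⁻¹ * s ∈ L := QuotientGroup.eq.mp h
      exact QuotientGroup.eq.mpr (by simpa using hLa _ h')
    have hσv : σ (a v) = σ v ^ i := by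
      rw [hi, map_mul, map_pow, show σ l = 1 from (QuotientGroup.eq_one_iff l).mpr hl, mul_one]
    have hσvp : σ v ^ p = 1 := by rw [← map_pow, (hmem v).mp hv, map_one]
    have h2 : σ ((a ^ 2) v) = σ v := by
      rw [pow_two, MulAut.mul_apply]
      have h3 := hσ (r := a v) (s := v ^ i) (by rw [hσv, map_pow])
      rw [h3, map_pow, map_pow, hσv, ← pow_mul]
      conv_rhs => rw [← pow_one (σ v)]
      exact pow_eq_pow_of_modEq hi1 hσvp
    have h2n : ∀ n : ℕ, σ (((a ^ 2) ^ n) v) = σ v := by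
      intro n
      induction n with
      | zero => rw [pow_zero, MulAut.one_apply]
      | succ n ih =>
        rw [pow_succ' (a ^ 2), MulAut.mul_apply, ← h2, pow_two, MulAut.mul_apply, MulAut.mul_apply]
        exact hσ (hσ ih)
    have hodd : Odd (orderOf a) := hXodd.of_dvd_nat (Subgroup.orderOf_dvd_natCard X ha)
    obtain ⟨d, hd⟩ := hodd
    have h3 := h2n (d + 1)
    rw [← pow_mul, show 2 * (d + 1) = orderOf a + 1 by omega, pow_succ, pow_orderOf_eq_one, one_mul] at h3
    have h4 : σ (v * (a v)⁻¹) = 1 := by rw [map_mul, map_inv, h3, mul_inv_cancel]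
    exact (QuotientGroup.eq_one_iff _).mp h4
  obtain ⟨l, hl, y, hvy, hy⟩ := exists_fixed_lift hR X hX L (fun a ha => (hfix a ha).1) (fun a ha => (hfix a ha).2)
  have hyΦ := fixed_mem_frattini hR X hX hgen hy
  haveI : (L ⊔ C).Normal := inferInstance
  have hidx : (L ⊔ C).index ≤ p ^ 2 := by
    have h2 : C.relIndex (L ⊔ C) = p := by
      rw [Subgroup.relIndex_sup_right]
      have h3 := Subgroup.card_mul_index (C.subgroupOf L)
      rw [← Subgroup.relIndex] at h3
      have h5 : (C ⊓ L) = Z := le_antisymm (fun w hw => ⟨hLR hw.2, hw.1⟩) (fun w hw => ⟨hw.2, Subgroup.mem_sup_left hw⟩)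
      rw [show Nat.card (C.subgroupOf L) = p by
        rw [← Subgroup.inf_subgroupOf_right, h5,
          Nat.card_congr (Subgroup.subgroupOfEquivOfLe (le_sup_left : Z ≤ L)).toEquiv, hZcard],
        hLcard, sq] at h3
      exact Nat.eq_of_mul_eq_mul_left hp.out.pos h3
    have h6 : C.relIndex T = p ^ 2 := by
      rw [hT, Subgroup.relIndex_sup_right]
      have h3 := Subgroup.card_mul_index (C.subgroupOf R1)
      rw [← Subgroup.relIndex] at h3
      rw [show Nat.card (C.subgroupOf R1) = p by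
        rw [← Subgroup.inf_subgroupOf_left, Nat.card_congr (Subgroup.subgroupOfEquivOfLe inf_le_left).toEquiv]
        exact hZcard, hcard3, pow_succ' p 2] at h3
      exact Nat.eq_of_mul_eq_mul_left hp.out.pos h3
    have h4 := Subgroup.relIndex_mul_index (show C ≤ L ⊔ C from le_sup_right)
    have h7 := Subgroup.relIndex_mul_index (show C ≤ T from le_sup_right)
    rw [h2] at h4
    rw [h6] at h7
    refine Nat.le_of_mul_le_mul_left (?_ : p * _ ≤ p * _) hp.out.pos
    rw [h4, ← h7]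
    exact (Nat.mul_le_mul_left _ hTidx).trans_eq (by ring)
  have hle : frattini R ≤ L ⊔ C := by
    refine FGS3.frattini_le_of_elementary (p := p) ?_ fun r => Subgroup.mem_sup_right (hpC r)
    have h8 : Nat.card (commutator (R ⧸ (L ⊔ C))) ≤ 1 := by
      simpa using card_commutator_le (hR.to_quotient (L ⊔ C)) (n := 0) (by rw [← Subgroup.index_eq_card]; simpa using hidx)
    rw [commutator_def, Subgroup.commutator_le]
    intro r _ s _
    refine (QuotientGroup.eq_one_iff _).mp ?_
    show QuotientGroup.mk' (L ⊔ C) ⁅r, s⁆ = 1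
    have h9 := Subgroup.card_eq_one.mp (le_antisymm h8 Nat.card_pos)
    rw [map_commutatorElement]
    exact Subgroup.mem_bot.mp (h9 ▸ Subgroup.commutator_mem_commutator (Subgroup.mem_top _) (Subgroup.mem_top _))
  have hvLC : v ∈ L ⊔ C := hvy ▸ mul_mem (Subgroup.mem_sup_left hl) (hle hyΦ)
  obtain ⟨l', hl', c, hc, hlc⟩ := Subgroup.mem_sup_of_normal_left.mp hvLC
  refine hvL (hlc ▸ mul_mem hl' (Subgroup.mem_sup_left ⟨?_, hc⟩))
  simpa [← hlc] using mul_mem (inv_mem (hLR hl')) hv

end Cfsg.Agent.OddLocal.RankTwo
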