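import Cfsg.Agent.OddLocal.RankTwo.SmallClass

/-! Huppert's criterion for metacyclic `p`-groups, `p > 3`. -/

set_option autoImplicit false
set_option linter.style.haveILetI false

namespace Cfsg.Agent.OddLocal.RankTwo

open Cfsg
open scoped commutatorElement

variable {R : Type*} [Group R] [Finite R] {p : ℕ} [hp : Fact p.Prime]

omit [Finite R] in
theorem powerClosure_normal (N : Subgroup R) [N.Normal] : (powerClosure p 1 N).Normal := ⟨fun y hy g => by
  have h := Subgroup.mem_map_of_mem (MulAut.conj g).toMonoidHom hy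
  rw [FGS3.Regular.map_powerClosure] at h
  refine FGS3.Regular.powerClosure_mono ?_ h
  rintro _ ⟨x, hx, rfl⟩
  exact (inferInstance : N.Normal).conj_mem x hx g⟩

theorem isMetacyclic_of_isCyclic (h : IsCyclic R) : IsMetacyclic R := by
  haveI := h
  exact ⟨⊥, inferInstance, inferInstance,
    isCyclic_of_surjective (QuotientGroup.mk' (⊥ : Subgroup R)) (QuotientGroup.mk'_surjective _)⟩

theorem isCyclic_of_frattini_index_le (hR : IsPGroup p R) (h : (frattini R).index ≤ p) : IsCyclic R := by
  obtain ⟨m, hm⟩ := hR.index (frattini R)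
  have hm1 : m ≤ 1 := by
    rw [hm] at h
    exact (Nat.pow_le_pow_iff_right hp.out.one_lt).mp (h.trans (pow_one p).ge)
  obtain ⟨v, hv⟩ := FGS3.exists_gen_of_frattini_index hR hm
  rcases (show m = 0 ∨ m = 1 by omega) with rfl | rfl
  · rw [show Set.range v = ∅ from Set.range_eq_empty v, Subgroup.closure_empty] at hv
    haveI : Subsingleton R := ⟨fun a b =>
      (Subgroup.mem_bot.mp (hv ▸ Subgroup.mem_top a)).trans (Subgroup.mem_bot.mp (hv ▸ Subgroup.mem_top b)).symm⟩
    infer_instance
  · refine ⟨⟨v 0, fun x => ?_⟩⟩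
    have hx : x ∈ Subgroup.closure (Set.range v) := hv ▸ Subgroup.mem_top x
    rw [show Set.range v = {v 0} by ext y; simp [Fin.exists_fin_one, eq_comm], ← Subgroup.zpowers_eq_closure] at hx
    exact hx

/-- Metacyclicity from `|R : R^p| ≤ p ^ 2`. -/
theorem metacyclic_of_index_powers (hp2 : p ≠ 2) (hR : IsPGroup p R)
    (h : (powerClosure p 1 (⊤ : Subgroup R)).index ≤ p ^ 2) : IsMetacyclic R := by
  classical
  haveI := hR.isNilpotent
  set U := powerClosure p 1 (⊤ : Subgroup R) with hU
  haveI : U.Normal := powerClosure_normal ⊤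
  have hUΦ : U ≤ frattini R := (Subgroup.closure_le _).mpr fun y ⟨x, _, hy⟩ => by
    rw [hy, pow_one]; exact FGS3.pow_mem_frattini hR x
  by_cases hΦ : (frattini R).index ≤ p
  · exact isMetacyclic_of_isCyclic (isCyclic_of_frattini_index_le hR hΦ)
  obtain ⟨m, hm⟩ := hR.index (frattini R)
  have hm2 : m = 2 := by
    have h1 := Nat.le_of_dvd (Nat.pos_of_ne_zero Subgroup.index_ne_zero_of_finite) (Subgroup.index_dvd_of_le hUΦ)
    rw [hm] at h1 hΦ
    have h2 := (Nat.pow_le_pow_iff_right hp.out.one_lt).mp (h1.trans h)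
    have h3 : ¬ m ≤ 1 := fun hle => hΦ ((Nat.pow_le_pow_right hp.out.pos hle).trans (pow_one p).le)
    omega
  subst hm2
  have hΦU : frattini R ≤ U := (Subgroup.eq_of_le_of_card_ge hUΦ (by
    have e1 := Subgroup.card_mul_index U
    have e2 := Subgroup.card_mul_index (frattini R)
    rw [hm] at e2
    have h3 : Nat.card (frattini R) * U.index ≤ Nat.card U * U.index :=
      (Nat.mul_le_mul_left _ h).trans_eq (e2.trans e1.symm)
    exact Nat.le_of_mul_le_mul_right h3 (Nat.pos_of_ne_zero Subgroup.index_ne_zero_of_finite))).ge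
  obtain ⟨v, hv⟩ := FGS3.exists_gen_of_frattini_index hR hm
  set V := powerClosure p 1 (commutator R) with hV
  haveI : V.Normal := powerClosure_normal _
  have hVd : V ≤ commutator R := FGS3.Regular.powerClosure_le_self _
  set g := fun i => (⊤ : Subgroup R).lowerCentralSeries i with hg
  haveI : ∀ i, (g i).Normal := fun i => inferInstanceAs ((⊤ : Subgroup R).lowerCentralSeries i).Normal
  have hg1 : g 1 = commutator R := Subgroup.top_lowerCentralSeries_one
  have hgs : ∀ i, g (i + 1) = ⁅g i, ⊤⁆ := fun i => Subgroup.lowerCentralSeries_succ _ i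
  have hpV : ∀ x ∈ commutator R, x ^ p ∈ V := fun x hx => Subgroup.subset_closure ⟨x, hx, by rw [pow_one]⟩
  -- the derived subgroup modulo `γ₃ V`
  set W := g 2 ⊔ V
  set π := QuotientGroup.mk' W
  have hπs := QuotientGroup.mk'_surjective W
  have hR2 : IsPGroup p (R ⧸ W) := hR.to_quotient W
  have hmap : (commutator R).map π = commutator (R ⧸ W) := by
    rw [commutator_def, Subgroup.map_commutator, Subgroup.map_top_of_surjective _ hπs, ← commutator_def]
  have hcc : commutator (R ⧸ W) ≤ Subgroup.center (R ⧸ W) := by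
    rw [← hmap]
    rintro _ ⟨x, hx, rfl⟩
    rw [Subgroup.mem_center_iff]
    intro y
    obtain ⟨y, rfl⟩ := hπs y
    refine (commutatorElement_eq_one_iff_mul_comm.mp ?_).symm
    rw [← map_commutatorElement]
    refine (QuotientGroup.eq_one_iff _).mpr (Subgroup.mem_sup_left ?_)
    rw [hgs, hg1]
    exact Subgroup.commutator_mem_commutator hx (Subgroup.mem_top y)
  have hexp : ∀ x ∈ commutator (R ⧸ W), x ^ p = 1 := by
    rw [← hmap]
    rintro _ ⟨x, hx, rfl⟩
    rw [← map_pow]
    exact (QuotientGroup.eq_one_iff _).mpr (Subgroup.mem_sup_right (hpV x hx))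
  have hpow : ∀ u w : R ⧸ W, (u * w) ^ p = u ^ p * w ^ p := fun u w =>
    FGS3.mul_pow_of_center_odd hcc u w (hp.out.odd_of_ne_two hp2)
      (hexp _ (Subgroup.commutator_mem_commutator (Subgroup.mem_top _) (Subgroup.mem_top _)))
  have hUpow : ∀ x ∈ U, ∃ y : R, π x = π y ^ p := by
    intro x hx
    rw [hU, powerClosure] at hx
    induction hx using Subgroup.closure_induction with
    | mem x hx => obtain ⟨y, -, hy⟩ := hx; exact ⟨y, by rw [hy, pow_one, map_pow]⟩
    | one => exact ⟨1, by simp⟩
    | mul x y _ _ hx hy =>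
      obtain ⟨u, hu⟩ := hx; obtain ⟨w, hw⟩ := hy
      exact ⟨u * w, by rw [map_mul, map_mul, hu, hw, hpow]⟩
    | inv x _ hx => obtain ⟨u, hu⟩ := hx; exact ⟨u⁻¹, by rw [map_inv, hu, map_inv, inv_pow]⟩
  set c := ⁅v 0, v 1⁆
  have hgen : Subgroup.closure {v 0, v 1} = ⊤ := by
    rw [← hv]
    congr 1
    ext y
    simp [Fin.exists_fin_two, eq_comm]
  have hcD : c ∈ commutator R := Subgroup.commutator_mem_commutator (Subgroup.mem_top _) (Subgroup.mem_top _)
  -- write `c` as a high power of an element outside `Φ`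
  obtain ⟨a, j, hj, haΦ, hca⟩ : ∃ (a : R) (j : ℕ), 1 ≤ j ∧ (a ∉ frattini R ∨ π c = 1) ∧ π c = π a ^ p ^ j := by
    by_cases hc1 : π c = 1
    · exact ⟨1, 1, le_rfl, Or.inr hc1, by simp [hc1]⟩
    obtain ⟨y, hy⟩ := hUpow c (hΦU (FGS3.commutator_le_frattini hR hcD))
    by_contra hcon
    push Not at hcon
    have hall : ∀ j, 1 ≤ j → ∃ y, π c = π y ^ p ^ j := by
      intro j hj
      induction j, hj using Nat.le_induction with
      | base => exact ⟨y, by rw [pow_one]; exact hy⟩
      | succ j hj ih =>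
        obtain ⟨u, hu⟩ := ih
        have huΦ : u ∈ frattini R := by
          by_contra huΦ
          exact hcon u j hj (Or.inl huΦ) hu
        obtain ⟨w, hw⟩ := hUpow u (hΦU huΦ)
        exact ⟨w, by rw [hu, hw, ← pow_mul, ← pow_succ']⟩
    obtain ⟨e, he⟩ := hR2.exists_card_eq
    obtain ⟨w, hw⟩ := hall (e + 1) (by omega)
    rw [pow_succ, pow_mul, ← he, pow_card_eq_one', one_pow] at hw
    exact hc1 hw
  -- choose a second generator
  obtain ⟨a, b, hab, hD⟩ : ∃ a b : R, Subgroup.closure {a, b} = ⊤ ∧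
      commutator R ≤ Subgroup.zpowers (a ^ p ^ j) ⊔ W := by
    have hDc : commutator R ≤ Subgroup.zpowers c ⊔ W := by
      haveI : (Subgroup.zpowers c ⊔ W).Normal := by
        have e : Subgroup.zpowers c ⊔ W = (Subgroup.zpowers (π c)).comap π := by
          rw [← MonoidHom.map_zpowers, Subgroup.comap_map_eq, QuotientGroup.ker_mk']
        rw [e]
        haveI : (Subgroup.zpowers (π c)).Normal := ⟨fun w hw g => by
          have := (Subgroup.zpowers_le.mpr (hcc (hmap ▸ ⟨c, hcD, rfl⟩))) hw
          rw [Subgroup.mem_center_iff] at this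
          rwa [this g, mul_inv_cancel_right]⟩
        infer_instance
      refine (FGS3.Regular.commutator_le_normalClosure hgen).trans (Subgroup.normalClosure_le_normal ?_)
      rintro _ rfl
      exact Subgroup.mem_sup_left (Subgroup.mem_zpowers c)
    have hcmem : ∀ a' : R, π c = π a' ^ p ^ j → commutator R ≤ Subgroup.zpowers (a' ^ p ^ j) ⊔ W := by
      intro a' ha'
      refine hDc.trans (sup_le (Subgroup.zpowers_le.mpr ?_) le_sup_right)
      rw [← map_pow] at ha'
      have := QuotientGroup.eq.mp ha'.symm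
      simpa using mul_mem (Subgroup.mem_sup_left (Subgroup.mem_zpowers (a' ^ p ^ j))) (Subgroup.mem_sup_right this)
    by_cases haΦ' : a ∈ frattini R
    · have hc1 : π c = 1 := haΦ.resolve_left (fun h => h haΦ')
      exact ⟨v 0, v 1, hgen, hDc.trans (sup_le (Subgroup.zpowers_le.mpr
        (Subgroup.mem_sup_right ((QuotientGroup.eq_one_iff c).mp hc1))) le_sup_right)⟩
    set M := Subgroup.zpowers a ⊔ frattini R
    have hM : M ≠ ⊤ := fun hM => hΦ (by
      have ha := frattini_nongenerating hM
      haveI : IsCyclic R := ⟨⟨a, fun x => ha.ge (Subgroup.mem_top x)⟩⟩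
      haveI : IsCyclic (R ⧸ frattini R) :=
        isCyclic_of_surjective (QuotientGroup.mk' (frattini R)) (QuotientGroup.mk'_surjective _)
      rw [Subgroup.index_eq_card]
      exact isCyclic_card_le_of_exponent (FGS3.quotient_frattini_pow hR))
    obtain ⟨b, hb⟩ : ∃ b, b ∉ M := by
      by_contra hcon
      push Not at hcon
      exact hM (eq_top_iff.mpr fun x _ => hcon x)
    refine ⟨a, b, frattini_nongenerating (Subgroup.index_eq_one.mp ?_), hcmem a hca⟩
    set M2 := Subgroup.closure {a, b} ⊔ frattini R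
    have hlt1 : frattini R < M :=
      lt_of_le_of_ne le_sup_right fun e => haΦ' (e.ge (Subgroup.mem_sup_left (Subgroup.mem_zpowers a)))
    have hlt2 : M < M2 := by
      refine lt_of_le_of_ne (sup_le_sup_right (Subgroup.zpowers_le.mpr (Subgroup.subset_closure (by simp))) _)
        fun e => hb (e.ge (Subgroup.mem_sup_left (Subgroup.subset_closure (by simp))))
    obtain ⟨m1, hm1⟩ := hR.index M
    obtain ⟨m2, hm2⟩ := hR.index M2
    have a1 := Subgroup.index_strictAnti hlt1
    have a2 := Subgroup.index_strictAnti hlt2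
    rw [hm, hm1] at a1; rw [hm1, hm2] at a2
    have b1 := (Nat.pow_lt_pow_iff_right hp.out.one_lt).mp a1
    have b2 := (Nat.pow_lt_pow_iff_right hp.out.one_lt).mp a2
    rw [hm2, show m2 = 0 by omega, pow_zero]
  -- `γ₃ ≤ V`
  have h34 : g 2 ≤ g 3 ⊔ V := by
    set W' := g 3 ⊔ V
    set σ := QuotientGroup.mk' W'
    have hσs := QuotientGroup.mk'_surjective W'
    have hσ3 : ∀ x ∈ g 2, σ x ∈ Subgroup.center (R ⧸ W') := fun x hx => Subgroup.mem_center_iff.mpr fun y => by
      obtain ⟨y, rfl⟩ := hσs y
      refine (commutatorElement_eq_one_iff_mul_comm.mp ?_).symm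
      rw [← map_commutatorElement]
      refine (QuotientGroup.eq_one_iff _).mpr (Subgroup.mem_sup_left ?_)
      rw [hgs]
      exact Subgroup.commutator_mem_commutator hx (Subgroup.mem_top y)
    have hσp : ∀ x ∈ commutator R, σ x ^ p = 1 := fun x hx => by
      rw [← map_pow]; exact (QuotientGroup.eq_one_iff _).mpr (Subgroup.mem_sup_right (hpV x hx))
    have hc1D : ⁅a, b⁆ ∈ commutator R := Subgroup.commutator_mem_commutator (Subgroup.mem_top a) (Subgroup.mem_top b)
    obtain ⟨z, hz, w, hw, hzw⟩ := Subgroup.mem_sup_of_normal_right.mp (hD hc1D)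
    obtain ⟨i, rfl⟩ := hz
    have hwc : σ w ∈ Subgroup.center (R ⧸ W') := by
      obtain ⟨u, hu, t, ht, rfl⟩ := Subgroup.mem_sup_of_normal_left.mp hw
      rw [map_mul, show σ t = 1 from (QuotientGroup.eq_one_iff t).mpr (Subgroup.mem_sup_right ht), mul_one]
      exact hσ3 u hu
    set A := σ a
    set B := σ b
    have hc' : ⁅A, B⁆ = (A ^ p ^ j) ^ i * σ w := by
      rw [← map_commutatorElement, ← hzw, map_mul, map_zpow, map_pow]
    have hcA : Commute ⁅A, B⁆ A := by
      rw [hc']
      exact Commute.mul_left (((Commute.refl A).pow_left _).zpow_left i) (Subgroup.mem_center_iff.mp hwc A).symm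
    have hpowc : ∀ k : ℕ, A ^ k * B * (A ^ k)⁻¹ = ⁅A, B⁆ ^ k * B := by
      intro k
      induction k with
      | zero => simp
      | succ k ih =>
        calc A ^ (k + 1) * B * (A ^ (k + 1))⁻¹ = A * (A ^ k * B * (A ^ k)⁻¹) * A⁻¹ := by rw [pow_succ']; group
          _ = (A * ⁅A, B⁆ ^ k) * B * A⁻¹ := by rw [ih]; group
          _ = ⁅A, B⁆ ^ k * (A * B * A⁻¹) := by rw [← (hcA.pow_left k).eq]; group
          _ = ⁅A, B⁆ ^ (k + 1) * B := by rw [pow_succ, commutatorElement_def]; group
    have hcp : ⁅A, B⁆ ^ p = 1 := by rw [← map_commutatorElement]; exact hσp _ hc1D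
    have hcB : Commute ⁅A, B⁆ B := by
      rw [hc']
      refine Commute.mul_left (Commute.zpow_left ?_ i) (Subgroup.mem_center_iff.mp hwc B).symm
      have h1 := hpowc (p ^ j)
      obtain ⟨t, ht⟩ := dvd_pow_self p (show j ≠ 0 by omega)
      rw [show ⁅A, B⁆ ^ p ^ j = 1 by rw [ht, pow_mul, hcp, one_pow], one_mul] at h1
      exact mul_inv_eq_iff_eq_mul.mp h1
    have hcent : σ ⁅a, b⁆ ∈ Subgroup.center (R ⧸ W') := by
      rw [map_commutatorElement, Subgroup.mem_center_iff]
      intro y
      obtain ⟨y, rfl⟩ := hσs y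
      have hle : Subgroup.closure {a, b} ≤ (Subgroup.centralizer ({⁅A, B⁆} : Set (R ⧸ W'))).comap σ := by
        refine (Subgroup.closure_le _).mpr ?_
        rintro _ (rfl | rfl)
        · exact Subgroup.mem_centralizer_singleton_iff.mpr hcA.eq.symm
        · exact Subgroup.mem_centralizer_singleton_iff.mpr hcB.eq.symm
      exact Subgroup.mem_centralizer_singleton_iff.mp (hle (hab ▸ Subgroup.mem_top y))
    have hDcen : commutator R ≤ (Subgroup.center (R ⧸ W')).comap σ :=
      (FGS3.Regular.commutator_le_normalClosure hab).trans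
        (Subgroup.normalClosure_le_normal (by rintro _ rfl; exact hcent))
    rw [hgs 1, hg1, Subgroup.commutator_le]
    intro x hx y _
    rw [← QuotientGroup.eq_one_iff]
    show σ ⁅x, y⁆ = 1
    rw [map_commutatorElement, commutatorElement_eq_one_iff_mul_comm]
    exact (Subgroup.mem_center_iff.mp (hDcen hx) (σ y)).symm
  have h3V : g 2 ≤ V := by
    have key : ∀ i, g (i + 2) ≤ g (i + 3) ⊔ V := by
      intro i
      induction i with
      | zero => exact h34
      | succ i ih =>
        rw [hgs (i + 2), hgs (i + 3)]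
        refine (Subgroup.commutator_mono ih le_rfl).trans ?_
        rw [Subgroup.commutator_le]
        intro x hx y _
        obtain ⟨u, hu, t, ht, rfl⟩ := Subgroup.mem_sup_of_normal_left.mp hx
        rw [show ⁅u * t, y⁆ = u * ⁅t, y⁆ * u⁻¹ * ⁅u, y⁆ by simp only [commutatorElement_def]; group]
        refine mul_mem (Subgroup.mem_sup_right ((inferInstance : V.Normal).conj_mem _ ?_ u))
          (Subgroup.mem_sup_left (Subgroup.commutator_mem_commutator hu (Subgroup.mem_top y)))
        exact Subgroup.commutator_le_left V ⊤ (Subgroup.commutator_mem_commutator ht (Subgroup.mem_top y))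
    have key2 : ∀ n, g 2 ≤ g (n + 2) ⊔ V := by
      intro n
      induction n with
      | zero => exact le_sup_left
      | succ n ih => exact ih.trans (sup_le (key n) le_sup_right)
    obtain ⟨n, hn⟩ := Subgroup.nilpotent_iff_lowerCentralSeries.mp hR.isNilpotent
    refine (key2 n).trans (sup_le ?_ le_rfl)
    exact ((Subgroup.lowerCentralSeries_antitone _ (Nat.le_add_right n 2)).trans hn.le).trans bot_le
  -- `R' ≤ ⟨a⟩`
  have hDa : commutator R ≤ Subgroup.zpowers a := by
    refine Subgroup.subgroupOf_eq_top.mp (frattini_nongenerating (eq_top_iff.mpr fun x _ => ?_))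
    obtain ⟨z, hz, w, hw, hzw⟩ := Subgroup.mem_sup_of_normal_right.mp (hD x.2)
    have hwV : w ∈ V := (sup_le h3V le_rfl : W ≤ V) hw
    have hzD : z ∈ commutator R := by
      have h' := mul_mem x.2 (inv_mem (hVd hwV))
      rwa [← hzw, mul_inv_cancel_right] at h'
    rw [show x = (⟨z, hzD⟩ : commutator R) * ⟨w, hVd hwV⟩ from Subtype.ext hzw.symm]
    refine mul_mem (Subgroup.mem_sup_left (Subgroup.mem_subgroupOf.mpr ?_)) (Subgroup.mem_sup_right ?_)
    · exact (Subgroup.zpowers_le.mpr (pow_mem (Subgroup.mem_zpowers a) _)) hz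
    · have hmem : V ≤ (frattini (commutator R)).map (commutator R).subtype := (Subgroup.closure_le _).mpr (by
        rintro _ ⟨u, hu, rfl⟩
        refine ⟨⟨u, hu⟩ ^ p, FGS3.pow_mem_frattini (hR.to_subgroup _) _, ?_⟩
        rw [map_pow, pow_one]; rfl)
      obtain ⟨u, hu, hu'⟩ := hmem hwV
      exact (show (⟨w, hVd hwV⟩ : commutator R) = u from Subtype.ext hu'.symm) ▸ hu
  haveI hAn : (Subgroup.zpowers a).Normal := ⟨fun x hx r => by
    have h1 : ⁅r, x⁆ ∈ Subgroup.zpowers a :=
      hDa (Subgroup.commutator_mem_commutator (Subgroup.mem_top r) (Subgroup.mem_top x))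
    simpa [commutatorElement_def] using mul_mem h1 hx⟩
  refine ⟨Subgroup.zpowers a, hAn, inferInstance, ⟨⟨QuotientGroup.mk b, fun y => ?_⟩⟩⟩
  obtain ⟨y, rfl⟩ := QuotientGroup.mk'_surjective _ y
  have hy : Subgroup.closure {a, b} ≤
      (Subgroup.zpowers (QuotientGroup.mk b : R ⧸ Subgroup.zpowers a)).comap (QuotientGroup.mk' _) := by
    refine (Subgroup.closure_le _).mpr ?_
    rintro _ (rfl | rfl)
    · rw [SetLike.mem_coe, Subgroup.mem_comap, QuotientGroup.mk'_apply,
        (QuotientGroup.eq_one_iff _).mpr (Subgroup.mem_zpowers _)]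
      exact one_mem _
    · exact Subgroup.mem_zpowers _
  exact hy (hab ▸ Subgroup.mem_top y)

omit hp in
theorem pow_mem_powerClosure {N : Subgroup R} {x : R} (hx : x ∈ N) : x ^ p ∈ powerClosure p 1 N :=
  Subgroup.subset_closure ⟨x, hx, by rw [pow_one]⟩

/-- `|R : R^p| ≤ p ^ 2` when the elements of order `p` generate at most `p ^ 2`. -/
theorem index_powers_le.{u} : ∀ (n : ℕ) {R : Type u} [Group R] [Finite R] {p : ℕ} [Fact p.Prime],
    3 < p → IsPGroup p R → Nat.card (Subgroup.closure {x : R | x ^ p = 1}) ≤ p ^ 2 → Nat.card R ≤ n →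
    (powerClosure p 1 (⊤ : Subgroup R)).index ≤ p ^ 2 := by
  intro n
  induction n with
  | zero => intro R _ _ p _ _ _ _ h; exact absurd h (by simp [Nat.card_pos.ne'])
  | succ n ih =>
    intro R _ _ p hpf hp3 hR hE hn
    have hp := hpf.out
    have hp5 : 5 ≤ p := by
      rcases hp.eq_two_or_odd with h | h <;> omega
    have hp2 : p ≠ 2 := by omega
    set U := powerClosure p 1 (⊤ : Subgroup R)
    by_cases hsmall : Nat.card R ≤ p ^ 2
    · exact (Nat.le_of_dvd Nat.card_pos (Subgroup.index_dvd_card _)).trans hsmall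
    set E := Subgroup.closure {x : R | x ^ p = 1}
    have hEne : E ≠ ⊤ := fun h => hsmall (by rwa [h, Subgroup.card_top] at hE)
    obtain ⟨M, hM, hEM⟩ := (eq_top_or_exists_le_coatom E).resolve_left hEne
    have hmeta : ∀ K : Subgroup R, K ≠ ⊤ → IsMetacyclic K := by
      intro K hK
      have hlt : Nat.card K < Nat.card R := by
        rw [← Subgroup.card_top (G := R)]; exact FGS3.Regular.card_lt_card hK.lt_top
      refine metacyclic_of_index_powers hp2 (hR.to_subgroup K)
        (ih hp3 (hR.to_subgroup K) (le_trans ?_ hE) (by omega))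
      rw [← Core.card_map_subtype]
      refine Subgroup.card_le_of_le ?_
      rw [MonoidHom.map_closure]
      refine Subgroup.closure_mono ?_
      rintro _ ⟨x, hx, rfl⟩
      show (x : R) ^ p = 1
      rw [← Subgroup.coe_pow, (hx : x ^ p = 1)]
      rfl
    have hMn : M.Normal := FGS3.normal_of_coatom hR hM
    haveI := hMn
    have hMidx := FGS3.index_of_coatom hR hM
    set N := powerClosure p 1 M
    haveI : N.Normal := powerClosure_normal M
    have hNM : N ≤ M := FGS3.Regular.powerClosure_le_self M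
    have hNU : N ≤ U := FGS3.Regular.powerClosure_mono le_top
    have hMN : N.relIndex M ≤ p ^ 2 := by
      rw [Subgroup.relIndex, Subgroup.index_eq_card, ← Subgroup.card_top]
      refine card_le_of_metacyclic (metacyclic_quotient (hmeta M hM.1) _) ⊤ fun y _ => ?_
      induction y using QuotientGroup.induction_on with
      | H y =>
        rw [← QuotientGroup.mk_pow, QuotientGroup.eq_one_iff, Subgroup.mem_subgroupOf, Subgroup.coe_pow]
        exact pow_mem_powerClosure y.2
    have hNidx : N.index ≤ p ^ 3 := by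
      rw [← Subgroup.relIndex_mul_index hNM, hMidx]
      exact Nat.mul_le_mul_right p hMN
    have hle2 : ∀ H : Subgroup R, H.index < p ^ 3 → H.index ≤ p ^ 2 := by
      intro H h
      obtain ⟨i, hi⟩ := hR.index H
      rw [hi] at h ⊢
      exact Nat.pow_le_pow_right hp.pos (by have := (Nat.pow_lt_pow_iff_right hp.one_lt).mp h; omega)
    by_cases hNsmall : N.index ≤ p ^ 2
    · exact (Nat.le_of_dvd (Nat.pos_of_ne_zero Subgroup.index_ne_zero_of_finite)
        (Subgroup.index_dvd_of_le hNU)).trans hNsmall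
    by_cases hall : ∀ x : R, x ^ p ∈ N
    swap
    · push Not at hall
      obtain ⟨x, hx⟩ := hall
      refine hle2 U (lt_of_lt_of_le (Subgroup.index_strictAnti (lt_of_le_of_ne hNU fun h => hx ?_)) hNidx)
      exact h ▸ pow_mem_powerClosure (Subgroup.mem_top x)
    exfalso
    set N1 := powerClosure p 1 N
    haveI : N1.Normal := powerClosure_normal N
    have hN1 : N1 ≤ N := FGS3.Regular.powerClosure_le_self N
    set σ := QuotientGroup.mk' N1
    have hσs := QuotientGroup.mk'_surjective N1
    have hRb : IsPGroup p (R ⧸ N1) := hR.to_quotient N1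
    have hNb : Nat.card (N.map σ) ≤ p ^ 2 := by
      have h1 : Nat.card (N.map σ) = Nat.card ↥((⊤ : Subgroup (N ⧸ N1.subgroupOf N))) := by
        rw [← Subgroup.relIndex_ker, QuotientGroup.ker_mk', Subgroup.card_top, ← Subgroup.index_eq_card]
        rfl
      rw [h1]
      refine card_le_of_metacyclic (metacyclic_quotient ?_ _) ⊤ fun y _ => ?_
      · exact hmeta N fun h => hM.1 (top_le_iff.mp (h ▸ hNM))
      · induction y using QuotientGroup.induction_on with
        | H y =>
          rw [← QuotientGroup.mk_pow, QuotientGroup.eq_one_iff, Subgroup.mem_subgroupOf, Subgroup.coe_pow]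
          exact pow_mem_powerClosure y.2
    have hidx : (N.map σ).index = N.index := Subgroup.index_map_eq N hσs ((QuotientGroup.ker_mk' N1).le.trans hN1)
    have hcard5 : Nat.card (R ⧸ N1) ≤ p ^ (3 + 2) := by
      rw [← Subgroup.card_mul_index (N.map σ), hidx]
      calc Nat.card (N.map σ) * N.index ≤ p ^ 2 * p ^ 3 := Nat.mul_le_mul hNb hNidx
        _ = p ^ (3 + 2) := by ring
    have hreg := regAt_one_of_card_derived hRb (card_commutator_le hRb hcard5) hp5
    have hmul : ∀ a b : R ⧸ N1, a ^ p = 1 → b ^ p = 1 → (a * b) ^ p = 1 := fun a b ha hb =>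
      omega_mem_of_regAt hRb hreg ha hb
    let Ω : Subgroup (R ⧸ N1) :=
      { carrier := {y | y ^ p = 1}
        one_mem' := one_pow _
        mul_mem' := fun {a b} ha hb => hmul a b ha hb
        inv_mem' := fun {a} (ha : a ^ p = 1) => by show a⁻¹ ^ p = 1; rw [inv_pow, ha, inv_one] }
    obtain ⟨x, hxM, hxp⟩ : ∃ x : R, x ∉ M ∧ σ x ^ p = 1 := by
      by_contra hcon
      push Not at hcon
      have hΩ : Nat.card Ω ≤ p ^ 2 := by
        have hle : Ω ≤ M.map σ := fun y (hy : y ^ p = 1) => by
          obtain ⟨y, rfl⟩ := hσs y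
          exact ⟨y, by_contra fun h => hcon y h hy, rfl⟩
        rw [← Nat.card_congr (Subgroup.subgroupOfEquivOfLe hle).toEquiv]
        refine card_le_of_metacyclic ?_ _ fun y hy => Subtype.ext (Subgroup.mem_subgroupOf.mp hy)
        let f := σ.subgroupMap M
        have hq := metacyclic_quotient (hmeta M hM.1) f.ker
        let e := QuotientGroup.quotientKerEquivOfSurjective f (σ.subgroupMap_surjective M)
        obtain ⟨K, hKn, hK, hKq⟩ := hq
        haveI := hKn; haveI := hK; haveI := hKq
        haveI : (K.map e.toMonoidHom).Normal := hKn.map _ e.surjective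
        exact ⟨K.map e.toMonoidHom, inferInstance, isCyclic_of_surjective (e.toMonoidHom.subgroupMap K)
          (e.toMonoidHom.subgroupMap_surjective K),
          isCyclic_of_surjective (QuotientGroup.congr K (K.map e.toMonoidHom) e rfl).toMonoidHom
            (QuotientGroup.congr K (K.map e.toMonoidHom) e rfl).surjective⟩
      have heq : ∀ a b : R ⧸ N1, a ^ p = b ^ p ↔ (a⁻¹ * b) ^ p = 1 := fun a b => by
        have := FGS3.Regular.pow_eq_pow_iff hRb hreg a b
        rwa [pow_one] at this
      let f : (R ⧸ N1) ⧸ Ω → (N.map σ) := Quotient.lift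
        (fun y => ⟨y ^ p, by obtain ⟨y, rfl⟩ := hσs y; rw [← map_pow]; exact ⟨_, hall y, rfl⟩⟩)
        (fun a b hab => Subtype.ext ((heq a b).mpr (QuotientGroup.leftRel_apply.mp hab)))
      have hf : Function.Injective f := by
        intro a b
        induction a using QuotientGroup.induction_on with
        | H a =>
          induction b using QuotientGroup.induction_on with
          | H b => exact fun hab => QuotientGroup.eq.mpr ((heq a b).mp (congrArg Subtype.val hab))
      have h1 : Ω.index ≤ Nat.card (N.map σ) := Nat.card_le_card_of_injective f hf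
      refine hNsmall (Nat.le_of_mul_le_mul_left ?_ (Nat.card_pos (α := N.map σ)))
      rw [← hidx, Subgroup.card_mul_index, ← Subgroup.card_mul_index Ω]
      exact (Nat.mul_le_mul hΩ h1).trans_eq (mul_comm _ _)
    have hxN1 : x ^ p ∈ N1 := by
      rw [← map_pow] at hxp
      exact (QuotientGroup.eq_one_iff _).mp hxp
    have hH : N ⊔ Subgroup.zpowers x ≠ ⊤ := by
      intro htop
      apply hNsmall
      have hcyc : Subgroup.zpowers (QuotientGroup.mk' N x) = ⊤ := by
        have h2 := congrArg (Subgroup.map (QuotientGroup.mk' N)) htop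
        rwa [Subgroup.map_sup, QuotientGroup.map_mk'_self, bot_sup_eq, MonoidHom.map_zpowers,
          Subgroup.map_top_of_surjective _ (QuotientGroup.mk'_surjective N)] at h2
      rw [Subgroup.index_eq_card, ← Subgroup.card_top, ← hcyc, Nat.card_zpowers]
      exact (Nat.le_of_dvd hp.pos (orderOf_dvd_of_pow_eq_one (by
        rw [← map_pow]; exact (QuotientGroup.eq_one_iff _).mpr (hall x)))).trans (Nat.le_self_pow two_ne_zero p)
    set K := N ⊔ Subgroup.zpowers x
    have hxK : x ∈ K := Subgroup.mem_sup_right (Subgroup.mem_zpowers x)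
    have hregK := regAt_one_of_metacyclic hp2 (hR.to_subgroup K) (hmeta K hH)
    have hxpc : (⟨x, hxK⟩ : K) ^ p ∈ powerClosure p 1 (N.subgroupOf K) := by
      have h2 : (powerClosure p 1 (N.subgroupOf K)).map K.subtype = N1 := by
        rw [FGS3.Regular.map_powerClosure, Subgroup.subgroupOf_map_subtype, inf_eq_left.mpr le_sup_left]
      rw [← h2] at hxN1
      obtain ⟨y, hy, hyx⟩ := hxN1
      exact (show y = (⟨x, hxK⟩ : K) ^ p from Subtype.ext hyx) ▸ hy
    obtain ⟨u, hu, huv⟩ := FGS3.Regular.mem_powerClosure (hR.to_subgroup K) hregK hxpc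
    rw [pow_one] at huv
    have h3 := (FGS3.Regular.pow_eq_pow_iff (hR.to_subgroup K) hregK u (⟨x, hxK⟩ : K)).mp (by rw [pow_one]; exact huv.symm)
    rw [pow_one] at h3
    have h4 : (u : R)⁻¹ * x ∈ M := hEM (Subgroup.subset_closure (show ((u : R)⁻¹ * x) ^ p = 1 by
      simpa using congrArg Subtype.val h3))
    exact hxM (by simpa using mul_mem (hNM (Subgroup.mem_subgroupOf.mp hu)) h4)

end Cfsg.Agent.OddLocal.RankTwo
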