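import Cfsg.Agent.OddLocal.RankTwo.Metacyclic
import Cfsg.Agent.Core.CoprimeAction
import Mathlib.GroupTheory.SemidirectProduct

/-! Coprime automorphisms of metacyclic `p`-groups. -/

set_option autoImplicit false
set_option linter.style.haveILetI false

namespace Cfsg.Agent.OddLocal.RankTwo

open Cfsg
open scoped commutatorElement

variable {R : Type*} [Group R] [Finite R] {p : ℕ} [hp : Fact p.Prime]

/-- Lifting fixed points of coprime automorphism groups. -/
theorem exists_fixed_lift (hR : IsPGroup p R) (X : Subgroup (MulAut R)) (hX : (Nat.card X).Coprime p)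
    (L : Subgroup R) (hL : ∀ a ∈ X, ∀ l ∈ L, a l ∈ L) {x : R} (hx : ∀ a ∈ X, x * (a x)⁻¹ ∈ L) :
    ∃ l ∈ L, ∃ y : R, x = l * y ∧ ∀ a ∈ X, a y = y := by
  classical
  set φ : X →* MulAut R := X.subtype
  haveI : Finite (R ⋊[φ] X) := Finite.of_equiv (R × X) SemidirectProduct.equivProd.symm
  set i : R →* R ⋊[φ] X := SemidirectProduct.inl
  set j : X →* R ⋊[φ] X := SemidirectProduct.inr
  have hconj : ∀ (a : X) (n : R), j a * i n * (j a)⁻¹ = i ((a : MulAut R) n) := fun a n => by
    rw [← map_inv]; exact (SemidirectProduct.inl_aut a n).symm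
  have hA : ∀ (K : Subgroup R), (∀ a ∈ X, ∀ l ∈ K, a l ∈ K) →
      j.range ≤ Subgroup.normalizer ((K.map i : Subgroup (R ⋊[φ] X)) : Set (R ⋊[φ] X)) := by
    intro K hK
    have hsub : ∀ (a : X), ∀ n ∈ K.map i, j a * n * (j a)⁻¹ ∈ K.map i := by
      rintro a _ ⟨n, hn, rfl⟩
      exact ⟨_, hK a a.2 n hn, (hconj a n).symm⟩
    rintro _ ⟨a, rfl⟩
    refine Subgroup.mem_normalizer_iff.mpr fun n => ⟨hsub a n, fun h => ?_⟩
    have := hsub a⁻¹ _ h
    rw [map_inv, inv_inv] at this
    simpa [mul_assoc] using this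
  have htop : (⊤ : Subgroup R).map i = i.range := (MonoidHom.range_eq_map i).symm
  obtain ⟨m, hm, c, hc, hxc⟩ := Core.exists_mul_centralizer (N := (⊤ : Subgroup R).map i) (M := L.map i)
    (A := j.range) (hA ⊤ fun _ _ _ _ => Subgroup.mem_top _)
    (Or.inr (haveI := ((hR.of_equiv Subgroup.topEquiv.symm).map i).isNilpotent; inferInstance)) (by
      rw [Subgroup.card_map_of_injective SemidirectProduct.inl_injective, Subgroup.card_top,
        ← Nat.card_congr (MonoidHom.ofInjective SemidirectProduct.inr_injective).toEquiv]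
      obtain ⟨n, hn⟩ := hR.exists_card_eq
      rw [hn]
      exact hX.pow_right n)
    (Subgroup.map_mono le_top) (hA L hL) (x := i x) ⟨x, Subgroup.mem_top x, rfl⟩ (by
      rintro _ ⟨a, rfl⟩
      refine ⟨x * ((a : MulAut R) x)⁻¹, hx a a.2, ?_⟩
      rw [map_mul, map_inv, ← hconj a x, commutatorElement_def]
      group)
  obtain ⟨l, hl, rfl⟩ := hm
  obtain ⟨⟨y, -, rfl⟩, hy⟩ := hc
  refine ⟨l, hl, y, SemidirectProduct.inl_injective (by rw [map_mul]; exact hxc), fun a ha => ?_⟩
  have h := Subgroup.mem_centralizer_iff.mp hy (j ⟨a, ha⟩) ⟨⟨a, ha⟩, rfl⟩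
  refine SemidirectProduct.inl_injective (φ := φ) ?_
  show i (((⟨a, ha⟩ : X) : MulAut R) y) = i y
  rw [← hconj, h, mul_inv_cancel_right]

omit hp in
theorem aut_commutator_mem (a : MulAut R) {x : R} (hx : x ∈ commutator R) : a x ∈ commutator R :=
  Subgroup.characteristic_iff_le_comap.mp inferInstance a hx

omit hp in
theorem aut_frattini_mem (a : MulAut R) {x : R} (hx : x ∈ frattini R) : a x ∈ frattini R :=
  Subgroup.characteristic_iff_le_comap.mp frattini_characteristic a hx

/-- Fixed point outside the Frattini subgroup: derived subgroup of order `p`. -/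
theorem exists_fixed_of_central (hp2 : p ≠ 2) (hR : IsPGroup p R) (hm : IsMetacyclic R)
    (hcc : commutator R ≤ Subgroup.center R) (hcard : Nat.card (commutator R) = p)
    (X : Subgroup (MulAut R)) (hX : (Nat.card X).Coprime p) :
    ∃ y : R, y ∉ frattini R ∧ ∀ a ∈ X, a y = y := by
  classical
  obtain ⟨c₀, hc₀⟩ := exists_prime_orderOf_dvd_card' (G := commutator R) p (by rw [hcard])
  set c : R := (c₀ : R) with hcdef
  have hco : orderOf c = p := by rw [hcdef, Subgroup.orderOf_coe, hc₀]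
  have hcgen : Subgroup.zpowers c = commutator R :=
    Subgroup.eq_of_le_of_card_ge (Subgroup.zpowers_le.mpr c₀.2) (by rw [Nat.card_zpowers, hco, hcard])
  have hcp : ∀ u ∈ commutator R, u ^ p = 1 := fun u hu =>
    orderOf_dvd_iff_pow_eq_one.mp (hcard ▸ Subgroup.orderOf_dvd_natCard _ hu)
  have hcom : ∀ u v : R, ⁅u, v⁆ ∈ commutator R := fun u v =>
    Subgroup.commutator_mem_commutator (Subgroup.mem_top u) (Subgroup.mem_top v)
  have hpodd : Odd p := hp.out.odd_of_ne_two hp2
  have hpow : ∀ (i : ℕ), 1 ≤ i → ∀ u v : R, (u * v) ^ p ^ i = u ^ p ^ i * v ^ p ^ i := fun i hi u v =>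
    FGS3.mul_pow_of_center_odd hcc u v hpodd.pow (by
      obtain ⟨i, rfl⟩ : ∃ i', i = i' + 1 := ⟨i - 1, by omega⟩
      rw [pow_succ', pow_mul, hcp _ (hcom v u), one_pow])
  -- the central quotient
  have hZp : ∀ u : R, u ^ p ∈ Subgroup.center R := fun u => Subgroup.mem_center_iff.mpr fun v => by
    have h := FGS3.commutatorElement_pow_left hcc u v p
    rw [hcp _ (hcom u v), commutatorElement_eq_one_iff_mul_comm] at h
    exact h.symm
  have hΦZ : frattini R ≤ Subgroup.center R := by
    rw [FGS3.frattini_eq_sup hR]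
    refine sup_le hcc ((Subgroup.closure_le _).mpr ?_)
    rintro _ ⟨u, rfl⟩
    exact hZp u
  have hnab : ¬ ∀ u v : R, u * v = v * u := fun h => by
    have hb : commutator R = ⊥ := by
      rw [eq_bot_iff, commutator_def, Subgroup.commutator_le]
      intro u _ v _
      rw [Subgroup.mem_bot, commutatorElement_eq_one_iff_mul_comm]
      exact h u v
    rw [hb, Subgroup.card_bot] at hcard
    exact hp.out.ne_one hcard.symm
  have hidx2 : (frattini R).index ≤ p ^ 2 := by
    rw [Subgroup.index_eq_card, ← Subgroup.card_top]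
    exact card_le_of_metacyclic (metacyclic_quotient hm _) ⊤ fun y _ => FGS3.quotient_frattini_pow hR y
  have hZidx : (Subgroup.center R).index = p ^ 2 ∧ Subgroup.center R = frattini R := by
    obtain ⟨m, hm'⟩ := hR.index (Subgroup.center R)
    have h2 : 2 ≤ m := by
      by_contra hlt
      haveI : IsCyclic (R ⧸ Subgroup.center R) := by
        rcases (show m = 0 ∨ m = 1 by omega) with rfl | rfl
        · haveI : Subsingleton (R ⧸ Subgroup.center R) :=
            (Nat.card_eq_one_iff_unique.mp (by rw [← Subgroup.index_eq_card, hm', pow_zero])).1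
          infer_instance
        · exact isCyclic_of_prime_card (by rw [← Subgroup.index_eq_card, hm', pow_one])
      exact hnab (commutative_of_cyclic_center_quotient (QuotientGroup.mk' (Subgroup.center R))
        (by rw [QuotientGroup.ker_mk']))
    have hd := Subgroup.index_dvd_of_le hΦZ
    have hle : (Subgroup.center R).index ≤ (frattini R).index :=
      Nat.le_of_dvd (Nat.pos_of_ne_zero Subgroup.index_ne_zero_of_finite) hd
    have h3 : p ^ 2 ≤ (Subgroup.center R).index := hm' ▸ Nat.pow_le_pow_right hp.out.pos h2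
    have heq : (Subgroup.center R).index = p ^ 2 := le_antisymm (hle.trans hidx2) h3
    refine ⟨heq, (Subgroup.eq_of_le_of_card_ge hΦZ ?_).symm⟩
    have e1 := Subgroup.card_mul_index (Subgroup.center R)
    have e2 := Subgroup.card_mul_index (frattini R)
    have hΦi : (frattini R).index = p ^ 2 := le_antisymm hidx2 (h3.trans hle)
    rw [heq] at e1; rw [hΦi] at e2
    exact (Nat.eq_of_mul_eq_mul_right (pow_pos hp.out.pos 2) (e1.trans e2.symm)).le
  -- the exponent
  obtain ⟨N, hNn, hN, hNq⟩ := id hm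
  haveI := hNn; haveI := hN; haveI := hNq
  have hcN : commutator R ≤ N := by
    rw [commutator_def, Subgroup.commutator_le]
    intro u _ v _
    rw [← QuotientGroup.eq_one_iff]
    show (QuotientGroup.mk' N) ⁅u, v⁆ = 1
    rw [map_commutatorElement, commutatorElement_eq_one_iff_mul_comm]
    obtain ⟨g, hg⟩ := IsCyclic.exists_generator (α := R ⧸ N)
    obtain ⟨s, hs⟩ := hg (QuotientGroup.mk' N u)
    obtain ⟨t, ht⟩ := hg (QuotientGroup.mk' N v)
    rw [← hs, ← ht]
    exact zpow_mul_comm g s t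
  have hex1 : ∃ u : R, u ^ p = c := by
    obtain ⟨n, hn⟩ := IsCyclic.exists_generator (α := N)
    have hncen : (n : R) ∉ commutator R := fun h => hnab (by
      haveI : IsCyclic (R ⧸ N) := hNq
      refine commutative_of_cyclic_center_quotient (QuotientGroup.mk' N) ?_
      rw [QuotientGroup.ker_mk']
      intro w hw
      obtain ⟨s, hs⟩ := hn ⟨w, hw⟩
      have hs' : (n : R) ^ s = w := by simpa using congrArg Subtype.val hs
      exact hs' ▸ zpow_mem (hcc h) s)
    obtain ⟨s, hs⟩ := hn ⟨c, hcN c₀.2⟩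
    have hs' : (n : R) ^ s = c := by simpa using congrArg Subtype.val hs
    by_cases hd : (p : ℤ) ∣ s
    · obtain ⟨t, rfl⟩ := hd
      exact ⟨(n : R) ^ t, by rw [← zpow_natCast, ← zpow_mul, mul_comm]; exact hs'⟩
    · exfalso
      obtain ⟨e, he⟩ := hR (n : R)
      obtain ⟨x', y', hxy⟩ : IsCoprime s (((p ^ e : ℕ) : ℤ)) := by
        push_cast
        exact ((Nat.prime_iff_prime_int.mp hp.out).coprime_iff_not_dvd.mpr hd).symm.pow_right
      refine hncen ?_
      rw [show (n : R) = c ^ x' by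
        rw [← hs', ← zpow_mul]
        have : (n : R) ^ (x' * s + y' * ((p ^ e : ℕ) : ℤ)) = n := by rw [hxy, zpow_one]
        rw [zpow_add, mul_comm y', zpow_mul, zpow_mul, zpow_natCast, he, one_zpow, mul_one] at this
        rw [mul_comm, zpow_mul]; exact this.symm]
      exact zpow_mem c₀.2 x'
  obtain ⟨j, hj1, ⟨v, hv⟩, hj2⟩ : ∃ j, 1 ≤ j ∧ (∃ u : R, u ^ p ^ j = c) ∧ ¬ ∃ u : R, u ^ p ^ (j + 1) = c := by
    by_contra hcon
    push Not at hcon
    have hall : ∀ j, 1 ≤ j → ∃ u : R, u ^ p ^ j = c := by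
      intro j hj
      induction j, hj using Nat.le_induction with
      | base => simpa using hex1
      | succ j hj ih => exact hcon j hj ih
    obtain ⟨e, he⟩ := hR.exists_card_eq
    obtain ⟨u, hu⟩ := hall (e + 1) (by omega)
    rw [pow_succ, pow_mul, ← he, pow_card_eq_one', one_pow] at hu
    rw [← hu, orderOf_one] at hco
    exact hp.out.ne_one hco.symm
  let K : Subgroup R :=
    { carrier := {x | ∃ u : R, x ^ p ^ j = u ^ p ^ (j + 1)}
      one_mem' := ⟨1, by simp⟩
      mul_mem' := fun {a b} ⟨u, hu⟩ ⟨w, hw⟩ => ⟨u * w, by rw [hpow j hj1, hpow (j + 1) (by omega), hu, hw]⟩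
      inv_mem' := fun {a} ⟨u, hu⟩ => ⟨u⁻¹, by rw [inv_pow, inv_pow, hu]⟩ }
  have hvK : v ∉ K := fun ⟨u, hu⟩ => hj2 ⟨u, hu ▸ hv⟩
  have hKa : ∀ a : MulAut R, ∀ x ∈ K, a x ∈ K := fun a x ⟨u, hu⟩ => ⟨a u, by rw [← map_pow, hu, map_pow]⟩
  have hΦK : frattini R ≤ K := by
    rw [FGS3.frattini_eq_sup hR]
    refine sup_le (fun u hu => ⟨1, ?_⟩) ((Subgroup.closure_le _).mpr ?_)
    · obtain ⟨i, rfl⟩ : ∃ i', j = i' + 1 := ⟨j - 1, by omega⟩
      rw [one_pow, pow_succ', pow_mul, hcp u hu, one_pow]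
    · rintro _ ⟨u, rfl⟩
      exact ⟨u, by rw [← pow_mul, ← pow_succ']⟩
  have hZK : Subgroup.center R ≤ K := hZidx.2.le.trans hΦK
  have hvZ : v ∉ Subgroup.center R := fun h => hvK (hZK h)
  -- the key computation
  have key : ∀ M : Subgroup R, (∀ a : MulAut R, ∀ m ∈ M, a m ∈ M) →
      (∀ m ∈ M, ∀ k ∈ K, m * k = k * m) → ∀ a : MulAut R, ∀ m ∈ M, ⁅a m * m⁻¹, v⁆ = 1 := by
    intro M hMa hMK a m hm
    obtain ⟨e, he⟩ := mem_powers_iff_mem_zpowers.2 (hcgen.ge (aut_commutator_mem a c₀.2))
    have he' : a c = c ^ e := he.symm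
    have hκ : (v ^ e)⁻¹ * a v ∈ K := ⟨1, by
      rw [hpow j hj1, inv_pow, ← pow_mul, mul_comm e, pow_mul, hv, ← map_pow, hv, he', inv_mul_cancel, one_pow]⟩
    have hac : ∀ u ∈ commutator R, a u = u ^ e := by
      intro u hu
      obtain ⟨i, rfl⟩ := mem_powers_iff_mem_zpowers.2 (hcgen.ge hu)
      show a (c ^ i) = (c ^ i) ^ e
      rw [map_pow, he', ← pow_mul, ← pow_mul, mul_comm]
    have h1 : ⁅a m, a v⁆ = ⁅a m, v⁆ ^ e := by
      rw [show a v = v ^ e * ((v ^ e)⁻¹ * a v) by group, FGS3.commutatorElement_mul_right_of_center hcc,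
        FGS3.commutatorElement_pow_right hcc,
        commutatorElement_eq_one_iff_mul_comm.mpr (hMK _ (hMa a m hm) _ hκ), mul_one]
    have h2 : ⁅a m, v⁆ ^ e = ⁅m, v⁆ ^ e := by
      rw [← h1, ← map_commutatorElement, hac _ (hcom m v)]
    have he1 : ¬ p ∣ e := fun ⟨t, ht⟩ => by
      rw [ht, pow_mul, hcp c c₀.2, one_pow, ← map_one a] at he'
      rw [a.injective he', orderOf_one] at hco
      exact hp.out.ne_one hco.symm
    have h3 : ⁅a m, v⁆ = ⁅m, v⁆ := by
      have h4 : (⁅m, v⁆⁻¹ * ⁅a m, v⁆) ^ e = 1 := by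
        rw [(show Commute ⁅m, v⁆⁻¹ ⁅a m, v⁆ from
          (Subgroup.mem_center_iff.mp (hcc (hcom (a m) v)) _)).mul_pow, inv_pow, h2, inv_mul_cancel]
      have h5 : (⁅m, v⁆⁻¹ * ⁅a m, v⁆) ^ p = 1 := hcp _ (mul_mem (inv_mem (hcom _ _)) (hcom _ _))
      exact (inv_mul_eq_one.mp (orderOf_eq_one_iff.mp (Nat.eq_one_of_dvd_coprimes
        (hp.out.coprime_iff_not_dvd.mpr he1) (orderOf_dvd_of_pow_eq_one h5) (orderOf_dvd_of_pow_eq_one h4)))).symm
    have h6 : ⁅m⁻¹, v⁆ * ⁅m, v⁆ = 1 := by
      rw [← FGS3.commutatorElement_mul_left_of_center hcc, inv_mul_cancel, commutatorElement_one_left]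
    rw [FGS3.commutatorElement_mul_left_of_center hcc, h3, ← inv_eq_of_mul_eq_one_left h6, mul_inv_cancel]
  set Cv := Subgroup.centralizer ({v} : Set R)
  by_cases hKc : K ≤ Subgroup.center R
  · -- every element is shifted into `C(v)`
    obtain ⟨x, hx⟩ : ∃ x, x ∉ Cv := by
      by_contra hcon
      push Not at hcon
      exact hvZ (Subgroup.mem_center_iff.mpr fun g => Subgroup.mem_centralizer_singleton_iff.mp (hcon g))
    have hkey := key ⊤ (fun _ _ _ => Subgroup.mem_top _)
      (fun m _ k hk => Subgroup.mem_center_iff.mp (hKc hk) m)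
    have hdiff : ∀ a : MulAut R, ∀ u : R, u * (a u)⁻¹ ∈ Cv := fun a u => by
      refine Subgroup.mem_centralizer_singleton_iff.mpr ?_
      have := commutatorElement_eq_one_iff_mul_comm.mp (hkey a u (Subgroup.mem_top u))
      have h' := (show Commute (a u * u⁻¹) v from this).inv_left
      rw [mul_inv_rev, inv_inv] at h'
      exact h'.eq
    obtain ⟨l, hl, y, hxy, hy⟩ := exists_fixed_lift hR X hX Cv (fun a _ l hl => by
      have h1 := hdiff a l
      have h2 := mul_mem (inv_mem h1) hl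
      simpa using h2) (x := x) (fun a _ => hdiff a x)
    refine ⟨y, fun hyΦ => hx ?_, hy⟩
    rw [hxy]
    exact mul_mem hl (Subgroup.mem_centralizer_singleton_iff.mpr (Subgroup.mem_center_iff.mp (hΦZ hyΦ) v).symm)
  · obtain ⟨k₀, hk₀, hk₀Z⟩ := SetLike.not_le_iff_exists.mp hKc
    have hsmall : ∀ H : Subgroup R, Subgroup.center R ≤ H → H ≠ ⊤ → ∀ u ∈ H, ∀ w ∈ H,
        u * w = w * u := by
      intro H hH hne u hu w hw
      by_cases hwZ : w ∈ Subgroup.center R
      · exact Subgroup.mem_center_iff.mp hwZ u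
      have hH' : Subgroup.zpowers w ⊔ Subgroup.center R = H := by
        refine Subgroup.eq_of_le_of_card_ge (sup_le (Subgroup.zpowers_le.mpr hw) hH) ?_
        have e1 := Subgroup.card_mul_index H
        have e2 := Subgroup.card_mul_index (Subgroup.zpowers w ⊔ Subgroup.center R)
        obtain ⟨m, hm'⟩ := hR.index H
        obtain ⟨m', hm''⟩ := hR.index (Subgroup.zpowers w ⊔ Subgroup.center R)
        have h1 : 1 ≤ m := Nat.one_le_iff_ne_zero.mpr fun h0 => hne (Subgroup.index_eq_one.mp (by rw [hm', h0, pow_zero]))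
        have h2 : m' < 2 := by
          have hlt : Subgroup.center R < Subgroup.zpowers w ⊔ Subgroup.center R :=
            lt_of_le_of_ne le_sup_right fun e => hwZ (e.ge (Subgroup.mem_sup_left (Subgroup.mem_zpowers w)))
          have h := Subgroup.index_strictAnti hlt
          rw [hZidx.1, hm''] at h
          exact (Nat.pow_lt_pow_iff_right hp.out.one_lt).mp h
        rw [hm'] at e1; rw [hm''] at e2
        have : p ^ m' ≤ p ^ m := Nat.pow_le_pow_right hp.out.pos (by omega)
        by_contra hlt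
        push Not at hlt
        exact absurd (e2.trans e1.symm) (ne_of_lt (Nat.mul_lt_mul_of_lt_of_le hlt this (pow_pos hp.out.pos m)))
      rw [← hH'] at hu
      obtain ⟨z₁, hz₁, z₂, hz₂, rfl⟩ := Subgroup.mem_sup_of_normal_right.mp hu
      obtain ⟨i, rfl⟩ := hz₁
      calc w ^ i * z₂ * w = w ^ i * (w * z₂) := by rw [mul_assoc, Subgroup.mem_center_iff.mp hz₂ w]
        _ = w * (w ^ i * z₂) := by rw [← mul_assoc, ← mul_assoc, (Commute.self_zpow w i).eq]
    have hKne : K ≠ ⊤ := fun h => hvK (h ▸ Subgroup.mem_top v)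
    have hkey := key K (fun a => hKa a) (hsmall K hZK hKne)
    have hdiff : ∀ a : MulAut R, k₀ * (a k₀)⁻¹ ∈ Subgroup.center R := by
      intro a
      by_contra hd
      set d := k₀ * (a k₀)⁻¹
      have hdv : d * v = v * d := by
        have := (show Commute (a k₀ * k₀⁻¹) v from commutatorElement_eq_one_iff_mul_comm.mp (hkey a k₀ hk₀)).inv_left
        rw [mul_inv_rev, inv_inv] at this
        exact this.eq
      have hdK : d ∈ K := mul_mem hk₀ (inv_mem (hKa a _ hk₀))
      by_cases hC : Subgroup.centralizer ({d} : Set R) = ⊤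
      · exact hd (Subgroup.mem_center_iff.mpr fun g =>
          Subgroup.mem_centralizer_singleton_iff.mp (hC ▸ Subgroup.mem_top g))
      have hZC : Subgroup.center R ≤ Subgroup.centralizer ({d} : Set R) := Subgroup.center_le_centralizer _
      have hKd : K ≤ Subgroup.centralizer ({d} : Set R) := fun k hk =>
        Subgroup.mem_centralizer_singleton_iff.mpr (hsmall K hZK hKne k hk d hdK)
      refine hvZ (Subgroup.mem_center_iff.mpr ?_)
      have htop : Subgroup.centralizer ({v} : Set R) = ⊤ := by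
        by_contra hne
        have hv1 : v ∈ Subgroup.centralizer ({d} : Set R) := Subgroup.mem_centralizer_singleton_iff.mpr hdv.symm
        have hvC : ∀ k ∈ K, k * v = v * k := fun k hk => hsmall _ hZC hC k (hKd hk) v hv1
        have h1 : K ≤ Subgroup.centralizer ({v} : Set R) := fun k hk =>
          Subgroup.mem_centralizer_singleton_iff.mpr (hvC k hk)
        have hlt : K < Subgroup.centralizer ({v} : Set R) := lt_of_le_of_ne h1 fun e =>
          hvK (e.ge (Subgroup.mem_centralizer_singleton_iff.mpr rfl))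
        have hlt2 : Subgroup.center R < K := lt_of_le_of_ne hZK fun e => hk₀Z (e.ge hk₀)
        obtain ⟨m₁, hm₁⟩ := hR.index K
        obtain ⟨m₂, hm₂⟩ := hR.index (Subgroup.centralizer ({v} : Set R))
        have a1 := Subgroup.index_strictAnti hlt
        have a2 := Subgroup.index_strictAnti hlt2
        rw [hm₁, hm₂] at a1; rw [hZidx.1, hm₁] at a2
        have b1 := (Nat.pow_lt_pow_iff_right hp.out.one_lt).mp a1
        have b2 := (Nat.pow_lt_pow_iff_right hp.out.one_lt).mp a2
        exact hne (Subgroup.index_eq_one.mp (by rw [hm₂, show m₂ = 0 by omega, pow_zero]))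
      exact fun g => Subgroup.mem_centralizer_singleton_iff.mp (htop ▸ Subgroup.mem_top g)
    obtain ⟨l, hl, y, hxy, hy⟩ := exists_fixed_lift hR X hX (Subgroup.center R)
      (fun a _ l hl => Subgroup.characteristic_iff_le_comap.mp inferInstance a hl) (x := k₀) (fun a _ => hdiff a)
    refine ⟨y, fun hyΦ => hk₀Z ?_, hy⟩
    rw [hxy]
    exact mul_mem hl (hΦZ hyΦ)

end Cfsg.Agent.OddLocal.RankTwo
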