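import Cfsg.Agent.OddLocal.RankTwo.MetacyclicAction
import Cfsg.Agent.Coprime.PxQ
import Cfsg.Agent.FGS3.FrattiniAction
import Cfsg.Agent.OddLocal.ThreeStep

/-! The structure of `[R, A]` and `C_R(A)` for metacyclic `R`. -/

set_option autoImplicit false
set_option linter.style.haveILetI false

namespace Cfsg.Agent.OddLocal.RankTwo

open Cfsg
open scoped commutatorElement

section Intrinsic

variable {R : Type*} [Group R] [Finite R] {p : ℕ} [hp : Fact p.Prime]

theorem derived_cyclic_of_metacyclic (hm : IsMetacyclic R) : IsCyclic (commutator R) := by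
  obtain ⟨N, hNn, hN, hNq⟩ := hm
  haveI := hNn; haveI := hN; haveI := hNq
  have hcN : commutator R ≤ N := by
    rw [commutator_def, Subgroup.commutator_le]
    intro u _ v _
    rw [← QuotientGroup.eq_one_iff]
    show (QuotientGroup.mk' N) ⁅u, v⁆ = 1
    rw [map_commutatorElement, commutatorElement_eq_one_iff_mul_comm]
    obtain ⟨g, hg⟩ := IsCyclic.exists_generator (α := R ⧸ N)
    obtain ⟨s, hs⟩ := hg (QuotientGroup.mk' N u)
    obtain ⟨t, ht⟩ := hg (QuotientGroup.mk' N v)
    rw [← hs, ← ht]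
    exact zpow_mul_comm g s t
  exact isCyclic_of_injective (Subgroup.inclusion hcN) (Subgroup.inclusion_injective hcN)

/-- Coprime automorphism groups of non-abelian metacyclic groups fix a point outside `Φ`. -/
theorem exists_fixed_notMem_frattini (hp2 : p ≠ 2) (hR : IsPGroup p R) (hm : IsMetacyclic R)
    (hnab : ¬ ∀ u v : R, u * v = v * u) (X : Subgroup (MulAut R)) (hX : (Nat.card X).Coprime p) :
    ∃ y : R, y ∉ frattini R ∧ ∀ a ∈ X, a y = y := by
  classical
  haveI := derived_cyclic_of_metacyclic hm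
  have hcomm : ∀ u ∈ commutator R, ∀ v ∈ commutator R, u * v = v * u := fun u hu v hv => by
    obtain ⟨g, hg⟩ := IsCyclic.exists_generator (α := commutator R)
    obtain ⟨s, hs⟩ := hg ⟨u, hu⟩
    obtain ⟨t, ht⟩ := hg ⟨v, hv⟩
    exact congrArg Subtype.val (hs ▸ ht ▸ zpow_mul_comm g s t : (⟨u, hu⟩ : commutator R) * ⟨v, hv⟩ = ⟨v, hv⟩ * ⟨u, hu⟩)
  let W : Subgroup R :=
    { carrier := {x | ∃ u ∈ commutator R, x = u ^ p}
      one_mem' := ⟨1, one_mem _, (one_pow _).symm⟩
      mul_mem' := fun {a b} ⟨u, hu, hau⟩ ⟨v, hv, hbv⟩ => ⟨u * v, mul_mem hu hv, by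
        rw [hau, hbv, (show Commute u v from hcomm u hu v hv).mul_pow]⟩
      inv_mem' := fun {a} ⟨u, hu, hau⟩ => ⟨u⁻¹, inv_mem hu, by rw [hau, inv_pow]⟩ }
  haveI hWc : W.Characteristic := Subgroup.characteristic_iff_le_comap.mpr fun e x ⟨u, hu, hxu⟩ =>
    ⟨e u, aut_commutator_mem e hu, by rw [hxu]; exact map_pow e u p⟩
  have hWd : W ≤ commutator R := fun x ⟨u, hu, hxu⟩ => hxu ▸ pow_mem hu p
  have hWne : ¬ commutator R ≤ W := by
    intro h
    have hne : commutator R ≠ ⊥ := fun hb => hnab fun u v => commutatorElement_eq_one_iff_mul_comm.mp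
      (Subgroup.mem_bot.mp (hb ▸ Subgroup.commutator_mem_commutator (Subgroup.mem_top u) (Subgroup.mem_top v)))
    let f : commutator R → commutator R := fun u => u ^ p
    have hsurj : Function.Surjective f := fun x => by
      obtain ⟨u, hu, hxu⟩ := h x.2
      exact ⟨⟨u, hu⟩, Subtype.ext hxu.symm⟩
    have hinj := Finite.injective_iff_surjective.mpr hsurj
    obtain ⟨k, hk⟩ := (hR.to_subgroup (commutator R)).exists_card_eq
    obtain ⟨z, hz⟩ := exists_prime_orderOf_dvd_card' (G := commutator R) p (by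
      rw [hk]; exact dvd_pow_self p fun h0 => hne (Subgroup.card_eq_one.mp (by rw [hk, h0, pow_zero])))
    have hz1 : z = 1 := hinj (show f z = f 1 by simp [f, ← hz, pow_orderOf_eq_one])
    rw [hz1, orderOf_one] at hz
    exact hp.out.ne_one hz.symm
  set π := QuotientGroup.mk' W with hπ
  have hπs := QuotientGroup.mk'_surjective W
  have hR' : IsPGroup p (R ⧸ W) := hR.to_quotient W
  haveI := hR'.isNilpotent
  have hmap : (commutator R).map π = commutator (R ⧸ W) := by
    rw [commutator_def, Subgroup.map_commutator, Subgroup.map_top_of_surjective _ hπs, ← commutator_def]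
  have hexp : ∀ x ∈ commutator (R ⧸ W), x ^ p = 1 := by
    intro x hx
    rw [← hmap] at hx
    obtain ⟨u, hu, rfl⟩ := hx
    rw [← map_pow]
    exact (QuotientGroup.eq_one_iff _).mpr ⟨u, hu, rfl⟩
  have hm' := metacyclic_quotient hm W
  haveI := derived_cyclic_of_metacyclic hm'
  have hne : commutator (R ⧸ W) ≠ ⊥ := fun h => hWne (by
    rw [← hmap, Subgroup.map_eq_bot_iff, QuotientGroup.ker_mk'] at h
    exact h)
  have hcard : Nat.card (commutator (R ⧸ W)) = p := by
    have hle : Nat.card (commutator (R ⧸ W)) ≤ p :=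
      isCyclic_card_le_of_exponent fun x => Subtype.ext (hexp x x.2)
    obtain ⟨k, hk⟩ := (hR'.to_subgroup (commutator (R ⧸ W))).exists_card_eq
    have h1 : k ≤ 1 := by
      rw [hk] at hle
      exact (Nat.pow_le_pow_iff_right hp.out.one_lt).mp (hle.trans (pow_one p).ge)
    have h0 : k ≠ 0 := fun h => hne (Subgroup.card_eq_one.mp (by rw [hk, h, pow_zero]))
    rw [hk, show k = 1 by omega, pow_one]
  have hcc : commutator (R ⧸ W) ≤ Subgroup.center (R ⧸ W) := by
    obtain ⟨z, hz, hz1, hzc⟩ := exists_ne_one_mem_center_of_normal (commutator (R ⧸ W)) hne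
    have : Subgroup.zpowers z = commutator (R ⧸ W) := by
      refine Subgroup.eq_of_le_of_card_ge (Subgroup.zpowers_le.mpr hz) ?_
      rw [hcard, Nat.card_zpowers, orderOf_eq_prime (hexp z hz) hz1]
    rw [← this]; exact Subgroup.zpowers_le.mpr hzc
  obtain ⟨y', hy'Φ, hy'⟩ := exists_fixed_of_central hp2 hR' hm' hcc hcard (X.map (autQuot W))
    (hX.coprime_dvd_left (Subgroup.card_map_dvd X _))
  obtain ⟨x, rfl⟩ := hπs y'
  have hxW : ∀ a ∈ X, x * (a x)⁻¹ ∈ W := fun a ha => by
    have h := hy' _ ⟨a, ha, rfl⟩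
    rw [QuotientGroup.mk'_apply, autQuot_apply] at h
    simpa [div_eq_mul_inv] using QuotientGroup.eq_iff_div_mem.mp h.symm
  obtain ⟨l, hl, y, hxy, hy⟩ := exists_fixed_lift hR X hX W
    (fun a _ l hl => Subgroup.characteristic_iff_le_comap.mp hWc a hl) hxW
  refine ⟨y, fun hyΦ => hy'Φ ?_, hy⟩
  refine FGS3.map_frattini_le_of_surjective hπs ⟨x, ?_, rfl⟩
  rw [hxy]
  exact mul_mem (FGS3.commutator_le_frattini hR (hWd hl)) hyΦ

/-- Fixed points of a coprime group `X` lie in `Φ(R)` if `R` is generated by the `x⁻¹ a(x)`. -/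
theorem fixed_mem_frattini (hR : IsPGroup p R) (X : Subgroup (MulAut R)) (hX : (Nat.card X).Coprime p)
    (hgen : Subgroup.closure {z : R | ∃ a ∈ X, ∃ x : R, z = x * (a x)⁻¹} = ⊤) {y : R}
    (hy : ∀ a ∈ X, a y = y) : y ∈ frattini R := by
  classical
  letI : CommGroup (R ⧸ frattini R) :=
    { (inferInstance : Group (R ⧸ frattini R)) with mul_comm := FGS3.quotient_frattini_comm hR }
  haveI : Fintype X := Fintype.ofFinite X
  set π := QuotientGroup.mk' (frattini R)
  let ψ : R →* R ⧸ frattini R := ∏ a : X, π.comp ((a : MulAut R).toMonoidHom)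
  have hψ : ∀ x : R, ψ x = ∏ a : X, π ((a : MulAut R) x) := fun x => by
    simp [ψ, MonoidHom.finsetProd_apply]
  have hker : ψ = 1 := by
    refine MonoidHom.eq_of_eqOn_dense hgen ?_
    rintro _ ⟨b, hb, x, rfl⟩
    have h1 : ψ (b x) = ψ x := by
      rw [hψ, hψ]
      exact Fintype.prod_equiv (Equiv.mulRight (⟨b, hb⟩ : X)) _ _ fun a => rfl
    rw [map_mul, map_inv, h1, mul_inv_cancel, MonoidHom.one_apply]
  have h1 := DFunLike.congr_fun hker y
  rw [hψ, Finset.prod_congr rfl (fun a _ => by rw [hy a a.2]), Finset.prod_const, Finset.card_univ,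
    ← Nat.card_eq_fintype_card, MonoidHom.one_apply] at h1
  refine (QuotientGroup.eq_one_iff y).mp (orderOf_eq_one_iff.mp (Nat.eq_one_of_dvd_coprimes hX
    (orderOf_dvd_of_pow_eq_one h1) (orderOf_dvd_of_pow_eq_one (FGS3.quotient_frattini_pow hR _))))

end Intrinsic

section Ambient

variable {G : Type*} [Group G] [Finite G] {p : ℕ} [hp : Fact p.Prime]

/-- The automorphism group induced by `A` on `R`. -/
def inducedAut {R A : Subgroup G} (hA : A ≤ Subgroup.normalizer (R : Set G)) : Subgroup (MulAut R) :=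
  (R.normalizerMonoidHom.comp (Subgroup.inclusion hA)).range

omit [Finite G] hp in
theorem inducedAut_coe {R A : Subgroup G} (hA : A ≤ Subgroup.normalizer (R : Set G)) (a : A) (r : R) :
    (((R.normalizerMonoidHom.comp (Subgroup.inclusion hA)) a r : R) : G) = a * r * (a : G)⁻¹ := rfl

omit hp in
theorem inducedAut_coprime {R A : Subgroup G} (hA : A ≤ Subgroup.normalizer (R : Set G))
    (hcop : (Nat.card A).Coprime p) : (Nat.card (inducedAut hA)).Coprime p :=
  hcop.coprime_dvd_left (Subgroup.card_range_dvd _)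

/-- The metacyclic structure theorem. -/
theorem metacyclic_action (hp2 : p ≠ 2) (R A : Subgroup G) (hR : IsPGroup p R) (hRm : IsMetacyclic R)
    (hA : A ≤ Subgroup.normalizer (R : Set G)) (hcop : (Nat.card A).Coprime p) :
    IsMulCommutative ↥⁅R, A⁆ ∧ ⁅R, A⁆ ⊔ (R ⊓ Subgroup.centralizer (A : Set G)) = R ∧
      ⁅R, A⁆ ⊓ (R ⊓ Subgroup.centralizer (A : Set G)) = ⊥ ∧
      (¬ IsMulCommutative R → ¬ A ≤ Subgroup.centralizer (R : Set G) →
        ⁅R, A⁆ ≠ ⊥ ∧ IsCyclic ↥⁅R, A⁆ ∧ (R ⊓ Subgroup.centralizer (A : Set G)) ≠ ⊥ ∧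
          IsCyclic ↥(R ⊓ Subgroup.centralizer (A : Set G)) ∧ ⁅R, R⁆ ≤ ⁅R, A⁆) := by
  set C := R ⊓ Subgroup.centralizer (A : Set G) with hC
  set B := ⁅R, A⁆ with hB
  have hcopR : ∀ H : Subgroup G, IsPGroup p H → (Nat.card A).Coprime (Nat.card H) := fun H hH => by
    obtain ⟨n, hn⟩ := hH.exists_card_eq
    rw [hn]; exact hcop.pow_right n
  haveI := hR.isNilpotent
  have hs : Group.IsSolvable R := inferInstance
  have hsup : B ⊔ C = R := (Core.eq_commutator_sup_centralizer hA (Or.inr hs) (hcopR R hR)).symm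
  have hBR : B ≤ R := Coprime.commutator_le_of_le_normalizer hA
  have hCR : C ≤ R := inf_le_left
  by_cases htriv : A ≤ Subgroup.centralizer (R : Set G)
  · have hb : B = ⊥ := Subgroup.commutator_eq_bot_iff_le_centralizer.mpr (Subgroup.le_centralizer_iff.mp htriv)
    refine ⟨?_, hsup, by rw [hb, bot_inf_eq], fun _ h => absurd htriv h⟩
    rw [hb]; infer_instance
  by_cases hab : IsMulCommutative R
  · refine ⟨?_, hsup, ?_, fun h => absurd hab h⟩
    · exact ⟨⟨fun a b => Subtype.ext (congrArg Subtype.val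
        (hab.is_comm.comm (⟨a, hBR a.2⟩ : R) ⟨b, hBR b.2⟩) :)⟩⟩
    · have := Coprime.commutator_inf_centralizer_eq_bot hA hab (hcopR R hR)
      exact eq_bot_iff.mpr (this ▸ inf_le_inf_left _ inf_le_right)
  -- the non-abelian, non-trivial case
  have hnab : ¬ ∀ u v : R, u * v = v * u := fun h => hab ⟨⟨h⟩⟩
  set Φ := (frattini R).map R.subtype with hΦ
  obtain ⟨A0, -, hA0, hA0all, hA0card, hA0le⟩ := exists_omega_of_metacyclic hp2 hR hRm
  have hconj : ∀ a ∈ A, ∀ r ∈ R, a * r * a⁻¹ ∈ R := fun a ha r hr => (Subgroup.mem_normalizer_iff.mp (hA ha) r).mp hr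
  have hbig : ∀ S : Subgroup G, S ≤ R → ¬ IsCyclic S → ∀ x ∈ R, x ^ p = 1 → x ∈ S := by
    intro S hS hnc x hx hxp
    obtain ⟨A1, -, hA1, -, hA1card, -⟩ := exists_omega_of_metacyclic (R := S.subgroupOf R) hp2
      (hR.to_subgroup _) (metacyclic_subgroup hRm _)
    have hnc' : ¬ IsCyclic (S.subgroupOf R) := fun h => by
      haveI := h
      exact hnc (isCyclic_of_surjective (Subgroup.subgroupOfEquivOfLe hS).toMonoidHom
        (Subgroup.subgroupOfEquivOfLe hS).surjective)
    have hle : A1.map (S.subgroupOf R).subtype ≤ A0 := by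
      rintro _ ⟨u, hu, rfl⟩
      exact hA0all _ (by rw [← map_pow, hA1.2 u hu, map_one])
    have heq : A1.map (S.subgroupOf R).subtype = A0 := Subgroup.eq_of_le_of_card_ge hle
      (by rw [Core.card_map_subtype, hA1card hnc']; exact hA0le)
    obtain ⟨u, -, hu⟩ := heq.ge (hA0all (⟨x, hx⟩ : R) (Subtype.ext hxp))
    have := u.2
    rw [Subgroup.mem_subgroupOf] at this
    rwa [show ((u : R) : G) = x from congrArg Subtype.val hu] at this
  obtain ⟨y, hyΦ, hy⟩ := exists_fixed_notMem_frattini hp2 hR hRm hnab (inducedAut hA) (inducedAut_coprime hA hcop)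
  have hyC : (y : G) ∈ C := by
    refine ⟨y.2, Subgroup.mem_centralizer_iff.mpr fun a ha => ?_⟩
    have h := congrArg Subtype.val (hy _ ⟨⟨a, ha⟩, rfl⟩)
    rw [inducedAut_coe] at h
    exact mul_inv_eq_iff_eq_mul.mp h
  have hC1 : C ≠ ⊥ := fun h => hyΦ (by
    have hy1 : (y : G) = 1 := Subgroup.mem_bot.mp (h ▸ hyC)
    rw [show y = 1 from Subtype.ext hy1]; exact one_mem _)
  have hfr : ∀ S : Subgroup G, S ≤ R → S.subgroupOf R ⊔ frattini R = ⊤ → R ≤ S := fun S _ h =>
    Subgroup.subgroupOf_eq_top.mp (frattini_nongenerating h)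
  have hCne : ¬ R ≤ C := fun h => htriv (Subgroup.le_centralizer_iff.mp (h.trans inf_le_right))
  haveI := derived_cyclic_of_metacyclic hRm
  -- `C` meets the derived subgroup trivially
  have hder : ⁅R, R⁆ ≤ R := Subgroup.commutator_le.mpr fun a ha b hb => by
    rw [commutatorElement_def]; exact mul_mem (mul_mem (mul_mem ha hb) (inv_mem ha)) (inv_mem hb)
  have hderA : A ≤ Subgroup.normalizer ((⁅R, R⁆ : Subgroup G) : Set G) := by
    refine le_trans hA fun g hg => ?_
    rw [← Subgroup.map_subtype_commutator]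
    exact normalizer_le_normalizer_map_char R _ hg
  have hcyc : IsCyclic ↥(⁅R, R⁆) := by
    rw [← Subgroup.map_subtype_commutator]
    exact isCyclic_of_surjective (R.subtype.subgroupMap (commutator R)) (R.subtype.subgroupMap_surjective _)
  have hCder : ∀ x ∈ C, x ∈ ⁅R, R⁆ → x = 1 := by
    intro x hxC hx
    by_contra hx1
    obtain ⟨n, hn⟩ := hR ⟨x, hxC.1⟩
    have hn' : x ^ p ^ n = 1 := by simpa using congrArg Subtype.val hn
    obtain ⟨k, -, hk⟩ := (Nat.dvd_prime_pow hp.out).mp (orderOf_dvd_of_pow_eq_one hn')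
    have hk0 : k ≠ 0 := fun h0 => hx1 (orderOf_eq_one_iff.mp (by rw [hk, h0, pow_zero]))
    set z := x ^ p ^ (k - 1)
    have hzo : orderOf z = p := by
      rw [orderOf_pow_of_dvd (pow_ne_zero _ hp.out.ne_zero) (hk ▸ pow_dvd_pow p (Nat.sub_le k 1)), hk,
        Nat.pow_div (Nat.sub_le k 1) hp.out.pos, show k - (k - 1) = 1 by omega, pow_one]
    have hfixder : A ≤ Subgroup.centralizer ((⁅R, R⁆ : Subgroup G) : Set G) := by
      intro a ha
      refine Subgroup.mem_centralizer_iff.mpr fun u hu => ?_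
      refine (mul_inv_eq_iff_eq_mul.mp (OddLocal.fixed_of_fixed_order_p hp2 a
        (hcop.coprime_dvd_left (Subgroup.orderOf_dvd_natCard A ha)) _ ⁅R, R⁆ le_rfl (hR.to_le hder)
        (fun w hw => (Subgroup.mem_normalizer_iff.mp (hderA ha) w).mp hw) (fun w hw hwp => ?_) u hu)).symm
      by_cases hw1 : w = 1
      · simp [hw1]
      have heq : Subgroup.zpowers w = Subgroup.zpowers z :=
        eq_of_card_eq_of_isCyclic hcyc (Subgroup.zpowers_le.mpr hw) (Subgroup.zpowers_le.mpr (pow_mem hx _))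
          (by rw [Nat.card_zpowers, Nat.card_zpowers, orderOf_eq_prime hwp hw1, hzo])
      obtain ⟨i, hi⟩ := heq.le (Subgroup.mem_zpowers w)
      have hwC : w ∈ C := hi ▸ zpow_mem (pow_mem hxC _) i
      rw [Subgroup.mem_centralizer_iff.mp hwC.2 a ha, mul_inv_cancel_right]
    have hCB : ⁅B, C⁆ = ⊥ := by
      rw [hB]
      apply Subgroup.commutator_commutator_eq_bot_of_rotate
      · rw [Subgroup.commutator_comm A C,
          Subgroup.commutator_eq_bot_iff_le_centralizer.mpr (inf_le_right : C ≤ _), Subgroup.commutator_bot_left]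
      · exact eq_bot_iff.mpr ((Subgroup.commutator_mono (Subgroup.commutator_mono hCR le_rfl) le_rfl).trans
          (le_of_eq (Subgroup.commutator_eq_bot_iff_le_centralizer.mpr (Subgroup.le_centralizer_iff.mp hfixder))))
    have hBC : ∀ b ∈ B, ∀ c ∈ C, b * c = c * b := fun b hb c hc => commutatorElement_eq_one_iff_mul_comm.mp
      (Subgroup.mem_bot.mp (hCB ▸ Subgroup.commutator_mem_commutator hb hc))
    -- two commuting generators
    obtain ⟨b, hb, hbC⟩ : ∃ b : R, (b : G) ∈ B ∧ b ∉ C.subgroupOf R ⊔ frattini R := by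
      by_contra hcon
      push Not at hcon
      refine hCne (hfr C hCR (top_le_iff.mp fun r _ => ?_))
      have hle : B ⊔ C ≤ (C.subgroupOf R ⊔ frattini R).map R.subtype :=
        sup_le (fun u hu => ⟨⟨u, hBR hu⟩, hcon _ hu, rfl⟩)
          (fun u hu => ⟨⟨u, hCR hu⟩, Subgroup.mem_sup_left (Subgroup.mem_subgroupOf.mpr hu), rfl⟩)
      obtain ⟨r', hr', hrr⟩ := hle (hsup.ge r.2)
      exact R.subtype_injective hrr ▸ hr'
    have hgen : Subgroup.zpowers b ⊔ Subgroup.zpowers y = ⊤ := by
      refine frattini_nongenerating (Subgroup.index_eq_one.mp ?_)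
      have hidx : (frattini R).index ≤ p ^ 2 := by
        rw [Subgroup.index_eq_card, ← Subgroup.card_top]
        exact card_le_of_metacyclic (metacyclic_quotient hRm _) ⊤ fun u _ => FGS3.quotient_frattini_pow hR u
      set M1 := Subgroup.zpowers y ⊔ frattini R
      set M2 := Subgroup.zpowers b ⊔ Subgroup.zpowers y ⊔ frattini R
      have hlt1 : frattini R < M1 :=
        lt_of_le_of_ne le_sup_right fun e => hyΦ (e.ge (Subgroup.mem_sup_left (Subgroup.mem_zpowers y)))
      have hlt2 : M1 < M2 := by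
        refine lt_of_le_of_ne (sup_le_sup_right le_sup_right _) fun e => hbC ?_
        refine (sup_le_sup_right ?_ _ : M1 ≤ _) (e.ge (Subgroup.mem_sup_left (Subgroup.mem_sup_left (Subgroup.mem_zpowers b))))
        exact Subgroup.zpowers_le.mpr (Subgroup.mem_subgroupOf.mpr hyC)
      obtain ⟨m0, hm0⟩ := hR.index (frattini R)
      obtain ⟨m1, hm1⟩ := hR.index M1
      obtain ⟨m2, hm2⟩ := hR.index M2
      have a1 := Subgroup.index_strictAnti hlt1
      have a2 := Subgroup.index_strictAnti hlt2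
      rw [hm0] at a1 hidx; rw [hm1] at a1 a2; rw [hm2] at a2
      have b1 := (Nat.pow_lt_pow_iff_right hp.out.one_lt).mp a1
      have b2 := (Nat.pow_lt_pow_iff_right hp.out.one_lt).mp a2
      have b3 := (Nat.pow_le_pow_iff_right hp.out.one_lt).mp hidx
      rw [hm2, show m2 = 0 by omega, pow_zero]
    have hby : Commute b y := Subtype.ext (hBC b hb y hyC)
    refine hnab fun u v => ?_
    have hall : ∀ w : R, Commute w b ∧ Commute w y := fun w => by
      have hw : w ∈ Subgroup.zpowers b ⊔ Subgroup.zpowers y := hgen.ge (Subgroup.mem_top w)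
      refine ⟨?_, ?_⟩
      · refine (Subgroup.mem_centralizer_singleton_iff.mp ((sup_le ?_ ?_ : _ ≤ Subgroup.centralizer ({b} : Set R)) hw))
        · exact Subgroup.zpowers_le.mpr (Subgroup.mem_centralizer_singleton_iff.mpr rfl)
        · exact Subgroup.zpowers_le.mpr (Subgroup.mem_centralizer_singleton_iff.mpr hby.eq.symm)
      · refine (Subgroup.mem_centralizer_singleton_iff.mp ((sup_le ?_ ?_ : _ ≤ Subgroup.centralizer ({y} : Set R)) hw))
        · exact Subgroup.zpowers_le.mpr (Subgroup.mem_centralizer_singleton_iff.mpr hby.eq)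
        · exact Subgroup.zpowers_le.mpr (Subgroup.mem_centralizer_singleton_iff.mpr rfl)
    have hv : v ∈ Subgroup.zpowers b ⊔ Subgroup.zpowers y := hgen.ge (Subgroup.mem_top v)
    refine (Subgroup.mem_centralizer_singleton_iff.mp ((sup_le ?_ ?_ : _ ≤ Subgroup.centralizer ({u} : Set R)) hv)).symm
    · exact Subgroup.zpowers_le.mpr (Subgroup.mem_centralizer_singleton_iff.mpr (hall u).1.eq.symm)
    · exact Subgroup.zpowers_le.mpr (Subgroup.mem_centralizer_singleton_iff.mpr (hall u).2.eq.symm)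
  have hderB : ⁅R, R⁆ ≤ B := by
    haveI := (hR.to_le hder).isNilpotent
    refine le_trans (Core.eq_commutator_sup_centralizer hderA (Or.inr inferInstance) (hcopR _ (hR.to_le hder))).le
      (sup_le (Subgroup.commutator_mono hder le_rfl) ?_)
    exact fun x hx => (hCder x ⟨hder hx.1, hx.2⟩ hx.1) ▸ one_mem B
  have hCcyc : IsCyclic C := by
    by_contra hnc
    refine htriv fun a ha => Subgroup.mem_centralizer_iff.mpr fun x hx => ?_
    refine (mul_inv_eq_iff_eq_mul.mp (OddLocal.fixed_of_fixed_order_p hp2 a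
      (hcop.coprime_dvd_left (Subgroup.orderOf_dvd_natCard A ha)) _ R le_rfl hR (hconj a ha) (fun w hw hwp => ?_) x hx)).symm
    rw [Subgroup.mem_centralizer_iff.mp (hbig C hCR hnc w hw hwp).2 a ha, mul_inv_cancel_right]
  have hBA : ⁅B, A⁆ = B := Core.commutator_commutator_eq hA (Or.inr hs) (hcopR R hR)
  have hBn : A ≤ Subgroup.normalizer (B : Set G) := Subgroup.normalizer_commutator_ge_right R A
  have hBp : IsPGroup p B := hR.to_le hBR
  have hBab : IsMulCommutative B := by
    by_contra hnc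
    have hBm : IsMetacyclic B := by
      obtain ⟨N, hNn, hN, hNq⟩ := metacyclic_subgroup hRm (B.subgroupOf R)
      haveI := hNn; haveI := hN; haveI := hNq
      let e := Subgroup.subgroupOfEquivOfLe hBR
      haveI : (N.map e.toMonoidHom).Normal := hNn.map _ e.surjective
      refine ⟨N.map e.toMonoidHom, inferInstance, isCyclic_of_surjective (e.toMonoidHom.subgroupMap N)
        (e.toMonoidHom.subgroupMap_surjective N),
        isCyclic_of_surjective (QuotientGroup.congr N (N.map e.toMonoidHom) e rfl).toMonoidHom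
          (QuotientGroup.congr N (N.map e.toMonoidHom) e rfl).surjective⟩
    obtain ⟨x, hxΦ, hx⟩ := exists_fixed_notMem_frattini hp2 hBp hBm (fun h => hnc ⟨⟨h⟩⟩) (inducedAut hBn)
      (inducedAut_coprime hBn hcop)
    refine hxΦ (fixed_mem_frattini hBp (inducedAut hBn) (inducedAut_coprime hBn hcop) ?_ hx)
    refine Subgroup.map_injective B.subtype_injective ?_
    rw [← MonoidHom.range_eq_map, Subgroup.range_subtype]
    refine le_antisymm (Subgroup.map_subtype_le _) ?_
    conv_lhs => rw [← hBA]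
    rw [Subgroup.commutator_le]
    intro u hu a ha
    refine ⟨⟨u, hu⟩ * ((B.normalizerMonoidHom.comp (Subgroup.inclusion hBn)) ⟨a, ha⟩ ⟨u, hu⟩)⁻¹,
      Subgroup.subset_closure ⟨_, ⟨⟨a, ha⟩, rfl⟩, _, rfl⟩, ?_⟩
    rw [commutatorElement_def, map_mul, map_inv, Subgroup.coe_subtype, inducedAut_coe]
    group
  have hint : B ⊓ C = ⊥ := by
    have := Coprime.commutator_inf_centralizer_eq_bot hBn hBab (hcopR B hBp)
    rw [hBA] at this
    exact eq_bot_iff.mpr (this ▸ inf_le_inf_left _ inf_le_right)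
  have hB1 : B ≠ ⊥ := fun h => htriv (Subgroup.le_centralizer_iff.mp
    (Subgroup.commutator_eq_bot_iff_le_centralizer.mp h))
  have hBcyc : IsCyclic B := by
    by_contra hnc
    haveI : Nontrivial C := (Subgroup.nontrivial_iff_ne_bot C).mpr hC1
    obtain ⟨n, hn, hcard⟩ := (hR.to_le hCR).nontrivial_iff_card.mp inferInstance
    obtain ⟨z, hz⟩ := exists_prime_orderOf_dvd_card' (G := C) p (by rw [hcard]; exact dvd_pow_self p (by omega))
    have hzp : (z : G) ^ p = 1 := by rw [← hz, ← Subgroup.orderOf_coe, pow_orderOf_eq_one]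
    have hm : (z : G) ∈ B ⊓ C := ⟨hbig B hBR hnc z (hCR z.2) hzp, z.2⟩
    rw [hint, Subgroup.mem_bot] at hm
    rw [← Subgroup.orderOf_coe, hm, orderOf_one] at hz
    exact hp.out.ne_one hz.symm
  exact ⟨hBab, hsup, hint, fun _ _ => ⟨hB1, hBcyc, hC1, hCcyc, hderB⟩⟩

end Ambient

end Cfsg.Agent.OddLocal.RankTwo
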