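import Cfsg.Agent.OddLocal.RankTwo.MetacyclicMain
import Cfsg.Agent.S4209

/-! Small class and regularity. -/

set_option autoImplicit false
set_option linter.style.haveILetI false

namespace Cfsg.Agent.OddLocal.RankTwo

open Cfsg
open scoped commutatorElement

variable {R : Type*} [Group R] {p : ℕ}

/-- In a nilpotent group `[N, G] < N` for `N ≠ 1` normal. -/
theorem commutator_top_lt [Group.IsNilpotent R] (N : Subgroup R) [N.Normal] (hN : N ≠ ⊥) :
    ⁅N, (⊤ : Subgroup R)⁆ < N := by
  refine lt_of_le_of_ne (Subgroup.commutator_le_left _ _) fun h => hN ?_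
  obtain ⟨n, hn⟩ := Subgroup.nilpotent_iff_lowerCentralSeries.mp (inferInstance : Group.IsNilpotent R)
  refine eq_bot_iff.mpr (hn ▸ ?_)
  clear hn
  induction n with
  | zero => exact le_top
  | succ n ih =>
    rw [Subgroup.lowerCentralSeries_succ]
    exact h.ge.trans (Subgroup.commutator_mono ih le_rfl)

theorem card_le_of_lt [Finite R] [hp : Fact p.Prime] (hR : IsPGroup p R) {H K : Subgroup R} (h : H < K) {m : ℕ}
    (hK : Nat.card K ≤ p ^ (m + 1)) : Nat.card H ≤ p ^ m := by
  obtain ⟨i, hi⟩ := (hR.to_subgroup H).exists_card_eq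
  have hlt : Nat.card H < p ^ (m + 1) := (FGS3.Regular.card_lt_card h).trans_le hK
  rw [hi] at hlt ⊢
  exact Nat.pow_le_pow_right hp.out.pos (by have := (Nat.pow_lt_pow_iff_right hp.out.one_lt).mp hlt; omega)

/-- The lower central series is short when the derived subgroup is small. -/
theorem lcs_eq_bot_of_card [Finite R] [hp : Fact p.Prime] (hR : IsPGroup p R) {k : ℕ}
    (h : Nat.card (commutator R) ≤ p ^ k) : (⊤ : Subgroup R).lowerCentralSeries (k + 1) = ⊥ := by
  haveI := hR.isNilpotent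
  suffices ∀ i, i ≤ k → Nat.card ↥((⊤ : Subgroup R).lowerCentralSeries (i + 1)) ≤ p ^ (k - i) by
    have h' := this k le_rfl
    rw [Nat.sub_self, pow_zero] at h'
    exact Subgroup.card_eq_one.mp (le_antisymm h' Nat.card_pos)
  intro i
  induction i with
  | zero => intro _; rwa [zero_add, Subgroup.top_lowerCentralSeries_one, Nat.sub_zero]
  | succ i ih =>
    intro hi
    rw [Subgroup.lowerCentralSeries_succ]
    by_cases hb : (⊤ : Subgroup R).lowerCentralSeries (i + 1) = ⊥
    · rw [hb, Subgroup.commutator_bot_left, Subgroup.card_bot]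
      exact Nat.one_le_pow _ _ hp.out.pos
    · exact card_le_of_lt hR (commutator_top_lt _ hb)
        ((show k - (i + 1) + 1 = k - i by omega) ▸ ih (by omega))

/-- The derived subgroup has index at least `p ^ 2` unless trivial. -/
theorem card_commutator_le [Finite R] [hp : Fact p.Prime] (hR : IsPGroup p R) {n : ℕ}
    (h : Nat.card R ≤ p ^ (n + 2)) : Nat.card (commutator R) ≤ p ^ n := by
  by_cases hb : commutator R = ⊥
  · rw [hb, Subgroup.card_bot]; exact Nat.one_le_pow _ _ hp.out.pos
  obtain ⟨m, hm⟩ := hR.index (commutator R)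
  obtain ⟨k, hk⟩ := (hR.to_subgroup (commutator R)).exists_card_eq
  have h1 := Subgroup.card_mul_index (commutator R)
  rw [hk, hm, ← pow_add] at h1
  rw [← h1] at h
  have hkm := (Nat.pow_le_pow_iff_right hp.out.one_lt).mp h
  have hm2 : 2 ≤ m := by
    by_contra hlt
    apply hb
    haveI : IsCyclic (R ⧸ commutator R) := by
      rcases (show m = 0 ∨ m = 1 by omega) with rfl | rfl
      · haveI : Subsingleton (R ⧸ commutator R) :=
          (Nat.card_eq_one_iff_unique.mp (by rw [← Subgroup.index_eq_card, hm, pow_zero])).1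
        infer_instance
      · exact isCyclic_of_prime_card (by rw [← Subgroup.index_eq_card, hm, pow_one])
    obtain ⟨g, hg⟩ := IsCyclic.exists_generator (α := R ⧸ commutator R)
    obtain ⟨g, rfl⟩ := QuotientGroup.mk'_surjective _ g
    have htop : Subgroup.zpowers g = ⊤ := by
      refine frattini_nongenerating (eq_top_iff.mpr fun x _ => ?_)
      obtain ⟨i, hi⟩ := hg (QuotientGroup.mk' _ x)
      have hm : (g ^ i)⁻¹ * x ∈ commutator R := by
        rw [← QuotientGroup.eq_one_iff]
        show (QuotientGroup.mk' (commutator R)) ((g ^ i)⁻¹ * x) = 1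
        rw [map_mul, map_inv, map_zpow]
        exact inv_mul_eq_one.mpr hi
      rw [show x = g ^ i * ((g ^ i)⁻¹ * x) by group]
      exact mul_mem (Subgroup.mem_sup_left (zpow_mem (Subgroup.mem_zpowers g) i))
        (Subgroup.mem_sup_right (FGS3.commutator_le_frattini hR hm))
    rw [eq_bot_iff, commutator_def, Subgroup.commutator_le]
    intro u _ v _
    rw [Subgroup.mem_bot, commutatorElement_eq_one_iff_mul_comm]
    obtain ⟨s, rfl⟩ := htop.ge (Subgroup.mem_top u)
    obtain ⟨t, rfl⟩ := htop.ge (Subgroup.mem_top v)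
    exact zpow_mul_comm g s t
  rw [hk]
  exact Nat.pow_le_pow_right hp.out.pos (by omega)

theorem regAt_one_of_card_derived [Finite R] [hp : Fact p.Prime] (hR : IsPGroup p R) {k : ℕ}
    (h : Nat.card (commutator R) ≤ p ^ k) (hk : k + 2 ≤ p) : FGS3.Regular.RegAt p 1 R := by
  have hcl : (⊤ : Subgroup R).lowerCentralSeries (p - 1) = ⊥ :=
    eq_bot_iff.mpr ((Subgroup.lowerCentralSeries_antitone _ (show k + 1 ≤ p - 1 by omega)).trans
      (lcs_eq_bot_of_card hR h).le)
  exact fun a b => (S4209.result hR hcl).2 a b 1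

/-- The regularity formula for a cyclic derived subgroup. -/
theorem exists_pow_mul [Finite R] [hp : Fact p.Prime] (hp2 : p ≠ 2) (hR : IsPGroup p R)
    [hc : IsCyclic (commutator R)] (a b : R) :
    ∃ u ∈ commutator R, (a * b) ^ p = a ^ p * b ^ p * u ^ p := by
  have hcomm : ∀ u ∈ commutator R, ∀ v ∈ commutator R, u * v = v * u := fun u hu v hv => by
    obtain ⟨g, hg⟩ := IsCyclic.exists_generator (α := commutator R)
    obtain ⟨s, hs⟩ := hg ⟨u, hu⟩
    obtain ⟨t, ht⟩ := hg ⟨v, hv⟩
    exact congrArg Subtype.val (hs ▸ ht ▸ zpow_mul_comm g s t : (⟨u, hu⟩ : commutator R) * ⟨v, hv⟩ = ⟨v, hv⟩ * ⟨u, hu⟩)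
  let W : Subgroup R :=
    { carrier := {x | ∃ u ∈ commutator R, x = u ^ p}
      one_mem' := ⟨1, one_mem _, (one_pow _).symm⟩
      mul_mem' := fun {a b} ⟨u, hu, hau⟩ ⟨v, hv, hbv⟩ => ⟨u * v, mul_mem hu hv, by
        rw [hau, hbv, (show Commute u v from hcomm u hu v hv).mul_pow]⟩
      inv_mem' := fun {a} ⟨u, hu, hau⟩ => ⟨u⁻¹, inv_mem hu, by rw [hau, inv_pow]⟩ }
  haveI : W.Normal := ⟨fun x ⟨u, hu, hxu⟩ g => ⟨g * u * g⁻¹,
    (inferInstance : (commutator R).Normal).conj_mem u hu g, by rw [conj_pow, hxu]⟩⟩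
  set π := QuotientGroup.mk' W
  have hπs := QuotientGroup.mk'_surjective W
  have hR' : IsPGroup p (R ⧸ W) := hR.to_quotient W
  haveI := hR'.isNilpotent
  have hmap : (commutator R).map π = commutator (R ⧸ W) := by
    rw [commutator_def, Subgroup.map_commutator, Subgroup.map_top_of_surjective _ hπs, ← commutator_def]
  have hexp : ∀ x ∈ commutator (R ⧸ W), x ^ p = 1 := by
    intro x hx
    rw [← hmap] at hx
    obtain ⟨u, hu, rfl⟩ := hx
    rw [← map_pow]
    exact (QuotientGroup.eq_one_iff _).mpr ⟨u, hu, rfl⟩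
  haveI : IsCyclic (commutator (R ⧸ W)) := by
    rw [← hmap]
    exact isCyclic_of_surjective (π.subgroupMap (commutator R)) (π.subgroupMap_surjective _)
  have hcc : commutator (R ⧸ W) ≤ Subgroup.center (R ⧸ W) := by
    by_cases hb : commutator (R ⧸ W) = ⊥
    · rw [hb]; exact bot_le
    obtain ⟨z, hz, hz1, hzc⟩ := exists_ne_one_mem_center_of_normal (commutator (R ⧸ W)) hb
    have : Subgroup.zpowers z = commutator (R ⧸ W) := by
      refine Subgroup.eq_of_le_of_card_ge (Subgroup.zpowers_le.mpr hz) ?_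
      rw [Nat.card_zpowers, orderOf_eq_prime (hexp z hz) hz1]
      exact isCyclic_card_le_of_exponent fun x => Subtype.ext (hexp x x.2)
    rw [← this]; exact Subgroup.zpowers_le.mpr hzc
  have h := FGS3.mul_pow_of_center_odd hcc (π a) (π b) (hp.out.odd_of_ne_two hp2)
    (hexp _ (Subgroup.commutator_mem_commutator (Subgroup.mem_top _) (Subgroup.mem_top _)))
  rw [← map_mul, ← map_pow, ← map_pow, ← map_pow, ← map_mul] at h
  obtain ⟨u, hu, he⟩ := QuotientGroup.eq.mp h.symm
  exact ⟨u, hu, by rw [← he]; group⟩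

/-- Metacyclic `p`-groups, `p` odd, are regular at exponent one. -/
theorem regAt_one_of_metacyclic [Finite R] [hp : Fact p.Prime] (hp2 : p ≠ 2) (hR : IsPGroup p R)
    (hm : IsMetacyclic R) : FGS3.Regular.RegAt p 1 R := by
  intro a b
  set K := Subgroup.closure ({a, b} : Set R)
  haveI := derived_cyclic_of_metacyclic (metacyclic_subgroup hm K)
  obtain ⟨u, hu, he⟩ := exists_pow_mul hp2 (hR.to_subgroup K)
    ⟨a, Subgroup.subset_closure (by simp)⟩ ⟨b, Subgroup.subset_closure (by simp)⟩
  refine ⟨(u : R) ^ p, Subgroup.subset_closure ⟨(u : R), ?_, by rw [pow_one]⟩, ?_⟩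
  · have : (u : R) ∈ (commutator K).map K.subtype := ⟨u, hu, rfl⟩
    rwa [Subgroup.map_subtype_commutator] at this
  · simpa [pow_one] using congrArg Subtype.val he

theorem omega_mem_of_regAt [Finite R] [hp : Fact p.Prime] (hR : IsPGroup p R) (h : FGS3.Regular.RegAt p 1 R)
    {a b : R} (ha : a ^ p = 1) (hb : b ^ p = 1) : (a * b) ^ p = 1 := by
  have := FGS3.Regular.omega_mul hR h (a := a) (b := b) (by rwa [pow_one]) (by rwa [pow_one])
  rwa [pow_one] at this

end Cfsg.Agent.OddLocal.RankTwo
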